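import Groth.Prelude.Def_SGA3y
import Groth.Agent.H40.Comod
import Mathlib.RingTheory.Coalgebra.Convolution
import Mathlib.RingTheory.Bialgebra.Basic

/-!
# The action of the dual algebra on a cocommutative bialgebra (for Cartier–Milnor–Moore)

`L φ x = (id ⊗ φ) Δ x` for `φ` in the (commutative) convolution algebra `WithConv (H →ₗ[k] k)`.
`L` is multiplicative; a subspace stable under all `L φ` is a subcoalgebra.
-/

set_option linter.unusedSectionVars false
set_option linter.unusedVariables false
set_option linter.style.longLine false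

universe u v

open TensorProduct WithConv

namespace Groth.Agent.Lib.Helper84.CMM

open Groth.Agent.H40

section Coalg

variable {k : Type u} [Field k] {H : Type v} [AddCommGroup H] [Module k H] [Coalgebra k H]

/-- `L φ x = (id ⊗ φ) Δ x`. -/
noncomputable def L (φ : WithConv (H →ₗ[k] k)) : H →ₗ[k] H :=
  slice φ.ofConv ∘ₗ (Coalgebra.comul (R := k) (A := H))

theorem L_apply (φ : WithConv (H →ₗ[k] k)) (x : H) :
    L φ x = slice φ.ofConv (Coalgebra.comul (R := k) x) := rfl

theorem L_eq_coactSlice (φ : WithConv (H →ₗ[k] k)) :
    L φ = coactSlice (k := k) (C := H) (V := H) φ.ofConv := rfl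

theorem L_mul (φ ψ : WithConv (H →ₗ[k] k)) (x : H) : L (φ * ψ) x = L φ (L ψ x) := by
  have h := slice_coact_coactSlice (k := k) (C := H) (V := H) φ.ofConv ψ.ofConv x
  rw [L_eq_coactSlice, L_eq_coactSlice, L_eq_coactSlice]
  change _ = slice φ.ofConv (Coalgebra.comul (R := k) (coactSlice (k := k) (C := H) ψ.ofConv x))
  have h' : slice φ.ofConv (Coalgebra.comul (R := k) (coactSlice (k := k) (C := H) ψ.ofConv x)) =
      coactSlice (k := k) (C := H) (convFun φ.ofConv ψ.ofConv) x := h
  rw [h']
  rfl

theorem L_one (x : H) : L (1 : WithConv (H →ₗ[k] k)) x = x := by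
  have := coactSlice_counit (k := k) (C := H) (V := H) x
  rw [L_eq_coactSlice]
  convert this using 2
  ext y
  simp [LinearMap.convOne_def]

theorem L_add (φ ψ : WithConv (H →ₗ[k] k)) (x : H) : L (φ + ψ) x = L φ x + L ψ x := by
  simp only [L_apply]
  generalize Coalgebra.comul (R := k) x = t
  induction t using TensorProduct.induction_on with
  | zero => simp
  | tmul a b => simp [add_smul]
  | add a b ha hb => simp only [map_add, ha, hb]; abel

theorem L_smul (c : k) (φ : WithConv (H →ₗ[k] k)) (x : H) : L (c • φ) x = c • L φ x := by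
  simp only [L_apply]
  generalize Coalgebra.comul (R := k) x = t
  induction t using TensorProduct.induction_on with
  | zero => simp
  | tmul a b => simp [mul_smul]
  | add a b ha hb => simp only [map_add, ha, hb, smul_add]

theorem L_pow (φ : WithConv (H →ₗ[k] k)) (n : ℕ) (x : H) : L (φ ^ n) x = ((L φ) ^ n) x := by
  induction n generalizing x with
  | zero => simp [L_one]
  | succ n ih =>
    rw [pow_succ', L_mul, ih, pow_succ', Module.End.mul_apply]

theorem counit_L (φ : WithConv (H →ₗ[k] k)) (x : H) :
    Coalgebra.counit (R := k) (L φ x) = φ x := by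
  have h := Coalgebra.rTensor_counit_comul (R := k) x
  rw [L_apply]
  have key : ∀ t : H ⊗[k] H, Coalgebra.counit (R := k) (slice φ.ofConv t) =
      φ.ofConv (TensorProduct.lid k H (((Coalgebra.counit (R := k) (A := H)).rTensor H) t)) := by
    intro t
    induction t using TensorProduct.induction_on with
    | zero => simp
    | tmul a b => simp [mul_comm]
    | add a b ha hb => simp only [map_add, ha, hb]
  rw [key, h]
  simp

theorem L_mem_of_comul_mem (D : Submodule k H) (φ : WithConv (H →ₗ[k] k)) {x : H}
    (hx : Coalgebra.comul (R := k) x ∈ LinearMap.range (D.subtype.rTensor H)) : L φ x ∈ D :=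
  slice_mem_of_mem_range D _ hx φ.ofConv

end Coalg

end Groth.Agent.Lib.Helper84.CMM
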