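import Groth.Agent.Lib.Helper84.CMM.LocNilp

/-!
# Adams operations `Ψ^m = id^{*m}` on a cocommutative bialgebra

`Psi m` is the `m`-th convolution power of the identity. For a cocommutative bialgebra it is
a coalgebra map, `Psi m ∘ Psi n = Psi (n * m)` and `Psi (m + n) = Psi m * Psi n`.
-/

set_option linter.unusedSectionVars false
set_option linter.unusedVariables false
set_option linter.style.longLine false

universe u v

open TensorProduct WithConv

namespace Groth.Agent.Lib.Helper84.CMM

section Gen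

variable {k : Type u} [Field k] {H : Type v} [Ring H] [Bialgebra k H]

/-- Adams operation: the `m`-th convolution power of the identity. -/
noncomputable def Psi (m : ℕ) : WithConv (H →ₗ[k] H) := (toConv LinearMap.id) ^ m

theorem Psi_zero : Psi (k := k) (H := H) 0 = 1 := pow_zero _

theorem Psi_one : Psi (k := k) (H := H) 1 = toConv LinearMap.id := pow_one _

theorem Psi_succ (m : ℕ) : Psi (k := k) (H := H) (m + 1) = Psi m * toConv LinearMap.id :=
  pow_succ _ _

theorem Psi_add (m n : ℕ) : Psi (k := k) (H := H) (m + n) = Psi m * Psi n := pow_add _ _ _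

theorem Psi_zero_apply (x : H) :
    (Psi (k := k) (H := H) 0) x = algebraMap k H (Coalgebra.counit x) := by
  rw [Psi_zero]; rfl

theorem Psi_one_apply (x : H) : (Psi (k := k) (H := H) 1) x = x := by
  rw [Psi_one]; rfl

/-- Compatibility of convolution powers with an algebra map on the target. -/
theorem algHom_comp_pow {B : Type*} [Ring B] [Algebra k B] (h : H →ₐ[k] B)
    (f : WithConv (H →ₗ[k] H)) (m : ℕ) :
    toConv (h.toLinearMap ∘ₗ (f ^ m).ofConv) = (toConv (h.toLinearMap ∘ₗ f.ofConv)) ^ m := by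
  induction m with
  | zero =>
    rw [pow_zero, pow_zero]
    apply WithConv.ext
    apply LinearMap.ext
    intro x
    change h ((1 : WithConv (H →ₗ[k] H)) x) = (1 : WithConv (H →ₗ[k] B)) x
    rw [LinearMap.convOne_apply, LinearMap.convOne_apply, AlgHom.commutes]
  | succ m ih =>
    rw [pow_succ, pow_succ, ← ih]
    apply WithConv.ext
    exact LinearMap.algHom_comp_convMul_distrib h (f ^ m) f

theorem Psi_apply_eq_sum (m : ℕ) (x : H) :
    (Psi (k := k) (H := H) m) x =
      ∑ j ∈ Finset.range (m + 1), ((m.choose j : ℕ) : k) • ((piC (k := k) (H := H)) ^ j) x := by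
  have h : Psi (k := k) (H := H) m =
      ∑ j ∈ Finset.range (m + 1), ((m.choose j : ℕ) : k) • (piC (k := k) (H := H)) ^ j := by
    have h1 : (toConv LinearMap.id : WithConv (H →ₗ[k] H)) = piC (k := k) (H := H) + 1 := by
      simp [piC]
    rw [Psi, h1, (Commute.one_right _).add_pow]
    refine Finset.sum_congr rfl fun j _ => ?_
    rw [one_pow, mul_one, ← nsmul_eq_mul', Nat.cast_smul_eq_nsmul]
  rw [h]
  change (∑ j ∈ Finset.range (m + 1), ((m.choose j : ℕ) : k) • (piC (k := k) (H := H)) ^ j).ofConv x = _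
  rw [ofConv_sum, LinearMap.sum_apply]
  rfl

/-- The counit is preserved by Adams operations. -/
theorem counit_Psi (m : ℕ) (x : H) :
    Coalgebra.counit (R := k) ((Psi (k := k) (H := H) m) x) = Coalgebra.counit (R := k) x := by
  have h := algHom_comp_pow (Bialgebra.counitAlgHom k H) (toConv LinearMap.id) m
  have h1 : (toConv ((Bialgebra.counitAlgHom k H).toLinearMap ∘ₗ
      (toConv (LinearMap.id : H →ₗ[k] H)).ofConv) : WithConv (H →ₗ[k] k)) = 1 := by
    apply WithConv.ext
    apply LinearMap.ext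
    intro y
    change Coalgebra.counit (R := k) y = (1 : WithConv (H →ₗ[k] k)) y
    rw [LinearMap.convOne_apply]
    rfl
  rw [h1, one_pow] at h
  have h2 := congrArg (fun f : WithConv (H →ₗ[k] k) => f x) h
  change Coalgebra.counit (R := k) ((Psi (k := k) (H := H) m) x) = (1 : WithConv (H →ₗ[k] k)) x at h2
  rw [h2, LinearMap.convOne_apply]
  rfl

theorem Psi_apply_one (m : ℕ) : (Psi (k := k) (H := H) m) 1 = 1 := by
  induction m with
  | zero => rw [Psi_zero_apply, Bialgebra.counit_one, map_one]
  | succ m ih =>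
    rw [Psi_succ, LinearMap.convMul_apply, Bialgebra.comul_one]
    change LinearMap.mul' k H ((Psi (k := k) (H := H) m) 1 ⊗ₜ[k] (1 : H)) = 1
    rw [ih]
    simp

end Gen

section Cocomm

variable {k : Type u} [Field k] {H : Type v} [Ring H] [Bialgebra k H] [Coalgebra.IsCocomm k H]

/-- `x ↦ x ⊗ 1` in the convolution algebra `Hom(H, H ⊗ H)`. -/
noncomputable def inlC : WithConv (H →ₗ[k] H ⊗[k] H) :=
  toConv (Algebra.TensorProduct.includeLeft : H →ₐ[k] H ⊗[k] H).toLinearMap

/-- `x ↦ 1 ⊗ x` in the convolution algebra `Hom(H, H ⊗ H)`. -/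
noncomputable def inrC : WithConv (H →ₗ[k] H ⊗[k] H) :=
  toConv (Algebra.TensorProduct.includeRight : H →ₐ[k] H ⊗[k] H).toLinearMap

/-- The comultiplication in the convolution algebra `Hom(H, H ⊗ H)`. -/
noncomputable def comulC : WithConv (H →ₗ[k] H ⊗[k] H) :=
  toConv (Coalgebra.comul (R := k) (A := H))

theorem mul'_map_incl (f g : H →ₗ[k] H) (t : H ⊗[k] H) :
    LinearMap.mul' k (H ⊗[k] H)
      (TensorProduct.map
        ((Algebra.TensorProduct.includeLeft : H →ₐ[k] H ⊗[k] H).toLinearMap ∘ₗ f)
        ((Algebra.TensorProduct.includeRight : H →ₐ[k] H ⊗[k] H).toLinearMap ∘ₗ g) t) =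
      TensorProduct.map f g t := by
  induction t using TensorProduct.induction_on with
  | zero => simp
  | tmul a b => simp
  | add a b ha hb => simp only [map_add, ha, hb]

theorem mul'_map_incl' (f g : H →ₗ[k] H) (t : H ⊗[k] H) :
    LinearMap.mul' k (H ⊗[k] H)
      (TensorProduct.map
        ((Algebra.TensorProduct.includeRight : H →ₐ[k] H ⊗[k] H).toLinearMap ∘ₗ f)
        ((Algebra.TensorProduct.includeLeft : H →ₐ[k] H ⊗[k] H).toLinearMap ∘ₗ g) t) =
      TensorProduct.map g f (TensorProduct.comm k H H t) := by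
  induction t using TensorProduct.induction_on with
  | zero => simp
  | tmul a b => simp
  | add a b ha hb => simp only [map_add, ha, hb]

theorem inlC_mul_inrC : inlC (k := k) (H := H) * inrC = comulC := by
  apply WithConv.ext
  apply LinearMap.ext
  intro x
  change LinearMap.mul' k (H ⊗[k] H) (TensorProduct.map _ _ (Coalgebra.comul (R := k) x)) = _
  have := mul'_map_incl (k := k) (H := H) LinearMap.id LinearMap.id (Coalgebra.comul (R := k) x)
  simp only [LinearMap.comp_id, TensorProduct.map_id, LinearMap.id_coe, id_eq] at this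
  exact this

theorem inrC_mul_inlC : inrC (k := k) (H := H) * inlC = comulC := by
  apply WithConv.ext
  apply LinearMap.ext
  intro x
  change LinearMap.mul' k (H ⊗[k] H) (TensorProduct.map _ _ (Coalgebra.comul (R := k) x)) = _
  have := mul'_map_incl' (k := k) (H := H) LinearMap.id LinearMap.id (Coalgebra.comul (R := k) x)
  simp only [LinearMap.comp_id, TensorProduct.map_id, LinearMap.id_coe, id_eq] at this
  rw [Coalgebra.comm_comul] at this
  exact this

/-- Adams operations are coalgebra maps (cocommutative case). -/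
theorem comul_Psi (m : ℕ) (x : H) :
    Coalgebra.comul (R := k) ((Psi (k := k) (H := H) m) x) =
      TensorProduct.map (Psi (k := k) (H := H) m).ofConv (Psi (k := k) (H := H) m).ofConv
        (Coalgebra.comul (R := k) x) := by
  have hcomm : Commute (inlC (k := k) (H := H)) inrC := by
    change _ = _
    rw [inlC_mul_inrC, inrC_mul_inlC]
  have h1 := algHom_comp_pow (Bialgebra.comulAlgHom k H) (toConv LinearMap.id) m
  have h2 := algHom_comp_pow (Algebra.TensorProduct.includeLeft : H →ₐ[k] H ⊗[k] H)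
    (toConv LinearMap.id) m
  have h3 := algHom_comp_pow (Algebra.TensorProduct.includeRight : H →ₐ[k] H ⊗[k] H)
    (toConv LinearMap.id) m
  have e1 : (toConv ((Bialgebra.comulAlgHom k H).toLinearMap ∘ₗ
      (toConv (LinearMap.id : H →ₗ[k] H)).ofConv) : WithConv (H →ₗ[k] H ⊗[k] H)) = comulC := rfl
  have e2 : (toConv ((Algebra.TensorProduct.includeLeft : H →ₐ[k] H ⊗[k] H).toLinearMap ∘ₗ
      (toConv (LinearMap.id : H →ₗ[k] H)).ofConv) : WithConv (H →ₗ[k] H ⊗[k] H)) = inlC := rfl
  have e3 : (toConv ((Algebra.TensorProduct.includeRight : H →ₐ[k] H ⊗[k] H).toLinearMap ∘ₗ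
      (toConv (LinearMap.id : H →ₗ[k] H)).ofConv) : WithConv (H →ₗ[k] H ⊗[k] H)) = inrC := rfl
  rw [e1] at h1
  rw [e2] at h2
  rw [e3] at h3
  have h4 : comulC (k := k) (H := H) ^ m = inlC (k := k) (H := H) ^ m * inrC (k := k) (H := H) ^ m := by
    rw [← inlC_mul_inrC, hcomm.mul_pow]
  rw [← h1, ← h2, ← h3] at h4
  have h5 := congrArg (fun f : WithConv (H →ₗ[k] H ⊗[k] H) => f x) h4
  change Coalgebra.comul (R := k) ((Psi (k := k) (H := H) m) x) =
    LinearMap.mul' k (H ⊗[k] H) (TensorProduct.map _ _ (Coalgebra.comul (R := k) x)) at h5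
  rw [h5]
  exact mul'_map_incl _ _ _

/-- Precomposition with a map compatible with comultiplication distributes over convolution. -/
theorem convMul_comp_of_comul (f g : WithConv (H →ₗ[k] H)) (h : H →ₗ[k] H)
    (hh : ∀ x, Coalgebra.comul (R := k) (h x) = TensorProduct.map h h (Coalgebra.comul (R := k) x)) :
    (f * g).ofConv ∘ₗ h = (toConv (f.ofConv ∘ₗ h) * toConv (g.ofConv ∘ₗ h)).ofConv := by
  apply LinearMap.ext
  intro x
  change LinearMap.mul' k H (TensorProduct.map f.ofConv g.ofConv (Coalgebra.comul (R := k) (h x))) =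
    LinearMap.mul' k H (TensorProduct.map (f.ofConv ∘ₗ h) (g.ofConv ∘ₗ h) (Coalgebra.comul (R := k) x))
  rw [hh, TensorProduct.map_comp]
  rfl

/-- `Ψ^m ∘ Ψ^n = Ψ^{nm}`. -/
theorem Psi_comp (m n : ℕ) :
    (Psi (k := k) (H := H) m).ofConv ∘ₗ (Psi (k := k) (H := H) n).ofConv =
      (Psi (k := k) (H := H) (n * m)).ofConv := by
  induction m with
  | zero =>
    apply LinearMap.ext
    intro x
    change (Psi (k := k) (H := H) 0) ((Psi (k := k) (H := H) n) x) = (Psi (k := k) (H := H) (n * 0)) x
    rw [Nat.mul_zero, Psi_zero_apply, Psi_zero_apply, counit_Psi]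
  | succ m ih =>
    rw [Psi_succ, convMul_comp_of_comul _ _ _ (comul_Psi n), ih]
    have : (toConv ((toConv (LinearMap.id : H →ₗ[k] H)).ofConv ∘ₗ (Psi (k := k) (H := H) n).ofConv) :
        WithConv (H →ₗ[k] H)) = Psi n := rfl
    rw [this, Nat.mul_succ, Psi_add]

theorem Psi_Psi_apply (m n : ℕ) (x : H) :
    (Psi (k := k) (H := H) m) ((Psi (k := k) (H := H) n) x) = (Psi (k := k) (H := H) (n * m)) x :=
  LinearMap.congr_fun (Psi_comp m n) x

end Cocomm

end Groth.Agent.Lib.Helper84.CMM
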