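import Groth.Agent.Lib.Helper84.CMM.Act
import Groth.Agent.S8220
import Mathlib.RingTheory.Artinian.Module
import Mathlib.RingTheory.Finiteness.Ideal
import Mathlib.LinearAlgebra.Dual.Lemmas

/-!
# Connected cocommutative bialgebras are conilpotent

For a connected cocommutative bialgebra `H` over a field, `π = id - ηε` is locally nilpotent for
the convolution product: `exists_pow_pi_eq_zero`.
-/

set_option linter.unusedSectionVars false
set_option linter.unusedVariables false
set_option linter.style.longLine false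

universe u v

open TensorProduct WithConv

namespace Groth.Agent.Lib.Helper84.CMM

open Groth.Agent.H40

section Tensor

variable {k : Type u} [Field k] {V : Type v} [AddCommGroup V] [Module k V]

/-- `(E ⊗ V) ∩ (V ⊗ E) = E ⊗ E` over a field. -/
theorem mem_range_map_of_mem_range (E : Submodule k V) (t : V ⊗[k] V)
    (h1 : t ∈ LinearMap.range (E.subtype.rTensor V))
    (h2 : t ∈ LinearMap.range (E.subtype.lTensor V)) :
    t ∈ LinearMap.range (TensorProduct.map E.subtype E.subtype) := by
  obtain ⟨p, hp⟩ := LinearMap.exists_leftInverse_of_injective E.subtype (Submodule.ker_subtype E)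
  have hp' : ∀ e : E, p (e : V) = e := fun e => LinearMap.congr_fun hp e
  obtain ⟨z, hz⟩ := h1
  obtain ⟨w, hw⟩ := h2
  refine ⟨TensorProduct.map p p t, ?_⟩
  have e1' : ∀ z : E ⊗[k] V, ((E.subtype ∘ₗ p).rTensor V) ((E.subtype.rTensor V) z) =
      (E.subtype.rTensor V) z := by
    intro z
    induction z using TensorProduct.induction_on with
    | zero => simp
    | tmul a b => simp [hp']
    | add a b ha hb => simp only [map_add, ha, hb]
  have e2' : ∀ w : V ⊗[k] E, ((E.subtype ∘ₗ p).lTensor V) ((E.subtype.lTensor V) w) =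
      (E.subtype.lTensor V) w := by
    intro w
    induction w using TensorProduct.induction_on with
    | zero => simp
    | tmul a b => simp [hp']
    | add a b ha hb => simp only [map_add, ha, hb]
  have e1 : ((E.subtype ∘ₗ p).rTensor V) t = t := by
    rw [← hz]; exact e1' z
  have e2 : ((E.subtype ∘ₗ p).lTensor V) t = t := by
    rw [← hw]; exact e2' w
  have e3 : ∀ s : V ⊗[k] V, TensorProduct.map E.subtype E.subtype (TensorProduct.map p p s) =
      ((E.subtype ∘ₗ p).rTensor V) (((E.subtype ∘ₗ p).lTensor V) s) := by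
    intro s
    induction s using TensorProduct.induction_on with
    | zero => simp
    | tmul a b => simp
    | add a b ha hb => simp only [map_add, ha, hb]
  rw [e3, e2, e1]

end Tensor

section Stable

variable {k : Type u} [Field k] {H : Type v} [AddCommGroup H] [Module k H] [Coalgebra k H]
  [Coalgebra.IsCocomm k H]

/-- A subspace stable under all `L φ` is a subcoalgebra (cocommutative case). -/
theorem comul_mem_of_stable (E : Submodule k H)
    (hE : ∀ (φ : WithConv (H →ₗ[k] k)), ∀ x ∈ E, L φ x ∈ E) {x : H} (hx : x ∈ E) :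
    Coalgebra.comul (R := k) x ∈ LinearMap.range (TensorProduct.map E.subtype E.subtype) := by
  have h1 : Coalgebra.comul (R := k) x ∈ LinearMap.range (E.subtype.rTensor H) := by
    apply mem_range_rTensor_subtype_of_forall_slice
    intro ψ
    exact hE (toConv ψ) x hx
  apply mem_range_map_of_mem_range E _ h1
  obtain ⟨z, hz⟩ := h1
  refine ⟨TensorProduct.comm k E H z, ?_⟩
  have h2 : ∀ z : E ⊗[k] H, (E.subtype.lTensor H) (TensorProduct.comm k E H z) =
      TensorProduct.comm k H H ((E.subtype.rTensor H) z) := by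
    intro z
    induction z using TensorProduct.induction_on with
    | zero => simp
    | tmul a b => simp
    | add a b ha hb => simp only [map_add, ha, hb]
  rw [h2, hz]
  exact Coalgebra.comm_comul k x

end Stable

section Bialg

variable {k : Type u} [Field k] {H : Type v} [Ring H] [Bialgebra k H] [Coalgebra.IsCocomm k H]

theorem L_one_elt (φ : WithConv (H →ₗ[k] k)) : L φ (1 : H) = φ 1 • (1 : H) := by
  rw [L_apply, Bialgebra.comul_one]
  simp [Algebra.TensorProduct.one_def]

theorem mul_apply_one (φ ψ : WithConv (H →ₗ[k] k)) : (φ * ψ) 1 = φ 1 * ψ 1 := by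
  rw [LinearMap.convMul_apply, Bialgebra.comul_one]
  simp [Algebra.TensorProduct.one_def]

/-- The augmentation ideal of the dual algebra. -/
def Jaug : Ideal (WithConv (H →ₗ[k] k)) where
  carrier := {φ | φ 1 = 0}
  add_mem' := by
    intro a b ha hb
    simp only [Set.mem_setOf_eq] at ha hb ⊢
    simp [ha, hb]
  zero_mem' := by simp
  smul_mem' := by
    intro c x hx
    simp only [Set.mem_setOf_eq] at hx ⊢
    rw [smul_eq_mul, mul_apply_one, hx, mul_zero]

theorem mem_Jaug {φ : WithConv (H →ₗ[k] k)} : φ ∈ Jaug (k := k) (H := H) ↔ φ 1 = 0 := Iff.rfl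

/-- The ideal of functionals acting by zero on `D`. -/
def Kann (D : Submodule k H) : Ideal (WithConv (H →ₗ[k] k)) where
  carrier := {φ | ∀ d ∈ D, L φ d = 0}
  add_mem' := by
    intro a b ha hb d hd
    rw [L_add, ha d hd, hb d hd, add_zero]
  zero_mem' := by
    intro d hd
    have := L_smul (0 : k) (0 : WithConv (H →ₗ[k] k)) d
    simpa using this
  smul_mem' := by
    intro c x hx d hd
    rw [smul_eq_mul, L_mul, hx d hd, map_zero]

theorem mem_Kann {D : Submodule k H} {φ : WithConv (H →ₗ[k] k)} :
    φ ∈ Kann D ↔ ∀ d ∈ D, L φ d = 0 := Iff.rfl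

theorem mem_Kann_of_vanish {D : Submodule k H}
    (hD : ∀ d ∈ D, Coalgebra.comul (R := k) d ∈
      LinearMap.range (TensorProduct.map D.subtype D.subtype))
    {φ : WithConv (H →ₗ[k] k)} (hφ : ∀ d ∈ D, φ d = 0) : φ ∈ Kann D := by
  intro d hd
  obtain ⟨w, hw⟩ := hD d hd
  have key : ∀ w : D ⊗[k] D, slice φ.ofConv (TensorProduct.map D.subtype D.subtype w) = 0 := by
    intro w
    induction w using TensorProduct.induction_on with
    | zero => simp
    | tmul a b =>
      have := hφ b b.2
      simp only [TensorProduct.map_tmul, slice_tmul, Submodule.subtype_apply]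
      change (φ.ofConv (b : H)) • (a : H) = 0
      have h0 : φ.ofConv (b : H) = 0 := this
      rw [h0, zero_smul]
    | add a b ha hb => simp only [map_add, ha, hb, add_zero]
  rw [L_apply, ← hw, key]

theorem one_ne_zero_H (k : Type u) [Field k] {H : Type v} [Ring H] [Bialgebra k H] :
    (1 : H) ≠ 0 := by
  intro h
  have := congrArg (Coalgebra.counit (R := k) (A := H)) h
  rw [Bialgebra.counit_one, map_zero] at this
  exact one_ne_zero this

/-- Each `φ` in the augmentation ideal acts nilpotently on a finite-dimensional subcoalgebra of a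
connected bialgebra. -/
theorem exists_pow_mem_Kann (hconn : SGA3y.IsConnectedCoalg k H) (D : Submodule k H)
    [Module.Finite k D]
    (hD : ∀ d ∈ D, Coalgebra.comul (R := k) d ∈
      LinearMap.range (TensorProduct.map D.subtype D.subtype))
    {φ : WithConv (H →ₗ[k] k)} (hφ : φ ∈ Jaug (k := k) (H := H)) :
    ∃ n : ℕ, φ ^ n ∈ Kann D := by
  classical
  have hDr : ∀ d ∈ D, Coalgebra.comul (R := k) d ∈ LinearMap.range (D.subtype.rTensor H) := by
    intro d hd
    obtain ⟨w, hw⟩ := hD d hd
    refine ⟨(D.subtype.lTensor D) w, ?_⟩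
    have key : ∀ w : D ⊗[k] D, (D.subtype.rTensor H) ((D.subtype.lTensor D) w) =
        TensorProduct.map D.subtype D.subtype w := by
      intro w
      induction w using TensorProduct.induction_on with
      | zero => simp
      | tmul a b => simp
      | add a b ha hb => simp only [map_add, ha, hb]
    rw [key, hw]
  have hstab : ∀ (ψ : WithConv (H →ₗ[k] k)), ∀ d ∈ D, L ψ d ∈ D :=
    fun ψ d hd => L_mem_of_comul_mem D ψ (hDr d hd)
  set T : Module.End k D := (L φ).restrict (hstab φ) with hT
  have hTpow : ∀ (n : ℕ) (d : D), (((T ^ n) d : D) : H) = L (φ ^ n) (d : H) := by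
    intro n d
    rw [hT, Module.End.pow_restrict n, LinearMap.restrict_apply, L_pow]
  obtain ⟨n, hn⟩ := ((LinearMap.eventually_isCompl_ker_pow_range_pow T).and
    (Filter.eventually_ge_atTop 1)).exists
  obtain ⟨hcompl, hn1⟩ := hn
  refine ⟨n, ?_⟩
  -- the stable subspace `E = L (φ^n) D`
  set E : Submodule k H := Submodule.map (L (φ ^ n)) D with hEdef
  have hEstab : ∀ (ψ : WithConv (H →ₗ[k] k)), ∀ x ∈ E, L ψ x ∈ E := by
    rintro ψ _ ⟨d, hd, rfl⟩
    refine ⟨L ψ d, hstab ψ d hd, ?_⟩
    rw [← L_mul, ← L_mul, mul_comm]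
  by_contra hcon
  have hEne : E ≠ ⊥ := by
    intro hE
    apply hcon
    intro d hd
    have : L (φ ^ n) d ∈ E := ⟨d, hd, rfl⟩
    rw [hE] at this
    exact (Submodule.mem_bot k).mp this
  have h1E : (1 : H) ∈ E := hconn E (fun x hx => comul_mem_of_stable E hEstab hx) hEne
  obtain ⟨d₀, hd₀, hd₀1⟩ := h1E
  have h1D : (1 : H) ∈ D := by
    rw [← hd₀1]
    exact hstab _ d₀ hd₀
  -- `1` lies in both the kernel and the range of `T ^ n`
  have hker : (⟨1, h1D⟩ : D) ∈ LinearMap.ker (T ^ n) := by
    rw [LinearMap.mem_ker]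
    apply Subtype.ext
    rw [hTpow]
    change L (φ ^ n) (1 : H) = 0
    rw [L_one_elt]
    have : (φ ^ n) 1 = 0 := by
      have hmem : φ ^ n ∈ Jaug (k := k) (H := H) := by
        obtain ⟨m, rfl⟩ : ∃ m, n = m + 1 := ⟨n - 1, by omega⟩
        rw [pow_succ]
        exact Ideal.mul_mem_left _ _ hφ
      exact hmem
    rw [this, zero_smul]
  have hrange : (⟨1, h1D⟩ : D) ∈ LinearMap.range (T ^ n) := by
    refine ⟨⟨d₀, hd₀⟩, ?_⟩
    apply Subtype.ext
    rw [hTpow]
    exact hd₀1
  have hbot := hcompl.disjoint.le_bot ⟨hker, hrange⟩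
  have h10 : (⟨1, h1D⟩ : D) = 0 := (Submodule.mem_bot k).mp hbot
  exact one_ne_zero_H k (congrArg Subtype.val h10)

end Bialg

end Groth.Agent.Lib.Helper84.CMM
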