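import Groth.Agent.Lib.Helper84.CMM.Weights

/-!
# A connected cocommutative bialgebra in characteristic zero is generated by primitives
-/

set_option linter.unusedSectionVars false
set_option linter.unusedVariables false
set_option linter.style.longLine false

universe u v

open TensorProduct WithConv

namespace Groth.Agent.Lib.Helper84.CMM

section PolyDiag

variable (k : Type u) [Field k] [CharZero k]

/-- Extraction of the linear coefficient on the diagonal of a two-variable expansion. -/
theorem poly_diag_one {V : Type*} [AddCommGroup V] [Module k V] (N : ℕ) (hN : 2 ≤ N)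
    (v : ℕ → ℕ → V) (w : V)
    (h : ∀ m : ℕ, ∑ s ∈ Finset.range N, ∑ u ∈ Finset.range N, ((m : k) ^ (s + u)) • v s u =
      (m : k) • w) : w = v 0 1 + v 1 0 := by
  classical
  set Z : ℕ → V := fun d => ∑ s ∈ Finset.range N, ∑ u ∈ Finset.range N,
    if s + u = d then v s u else 0 with hZ
  have key : ∀ m : ℕ, ∑ d ∈ Finset.range (2 * N), ((m : k) ^ d) • Z d =
      ∑ d ∈ Finset.range (2 * N), ((m : k) ^ d) • (if d = 1 then w else 0) := by
    intro m
    have h1 : ∑ d ∈ Finset.range (2 * N), ((m : k) ^ d) • (if d = 1 then w else 0) = (m : k) • w := by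
      simp only [smul_ite, smul_zero]
      rw [Finset.sum_ite_eq', if_pos (Finset.mem_range.mpr (by omega)), pow_one]
    rw [h1, ← h m]
    simp only [hZ, Finset.smul_sum]
    rw [Finset.sum_comm]
    refine Finset.sum_congr rfl fun s hs => ?_
    rw [Finset.sum_comm]
    refine Finset.sum_congr rfl fun u hu => ?_
    simp only [smul_ite, smul_zero]
    rw [Finset.sum_ite_eq, if_pos]
    have := Finset.mem_range.mp hs
    have := Finset.mem_range.mp hu
    exact Finset.mem_range.mpr (by omega)
  have h2 := poly_coeff_eq k _ _ _ key 1 (by omega)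
  rw [if_pos rfl] at h2
  rw [← h2]
  simp only [hZ]
  have h01 : ({0, 1} : Finset ℕ) ⊆ Finset.range N := by
    intro a ha
    simp only [Finset.mem_insert, Finset.mem_singleton] at ha
    rcases ha with rfl | rfl <;> exact Finset.mem_range.mpr (by omega)
  rw [← Finset.sum_subset h01]
  · rw [Finset.sum_pair (by norm_num)]
    congr 1
    · simp only [zero_add]
      rw [Finset.sum_ite_eq', if_pos (Finset.mem_range.mpr (by omega))]
    · have : ∀ u ∈ Finset.range N, (if 1 + u = 1 then v 1 u else 0) = if u = 0 then v 1 u else 0 := by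
        intro u _
        by_cases hu : u = 0
        · simp [hu]
        · rw [if_neg hu, if_neg (by omega)]
      rw [Finset.sum_congr rfl this, Finset.sum_ite_eq', if_pos (Finset.mem_range.mpr (by omega))]
  · intro s _ hs
    simp only [Finset.mem_insert, Finset.mem_singleton, not_or] at hs
    apply Finset.sum_eq_zero
    intro u _
    rw [if_neg (by omega)]

end PolyDiag

section Conn

variable {k : Type u} [Field k] [CharZero k] {H : Type v} [Ring H] [Bialgebra k H]
  [Coalgebra.IsCocomm k H]

/-- Two-variable expansion of `Ψ^m ⊗ Ψ^n` on a tensor. -/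
theorem exists_tensor_expansion (hconn : SGA3y.IsConnectedCoalg k H) (t : H ⊗[k] H) :
    ∃ N : ℕ, ∀ N', N ≤ N' → ∀ m n : ℕ,
      TensorProduct.map (Psi (k := k) (H := H) m).ofConv (Psi (k := k) (H := H) n).ofConv t =
        ∑ s ∈ Finset.range N', ∑ u ∈ Finset.range N', (((m : k) ^ s) * ((n : k) ^ u)) •
          TensorProduct.map (eW hconn s) (eW hconn u) t := by
  induction t using TensorProduct.induction_on with
  | zero =>
    refine ⟨0, fun N' _ m n => ?_⟩
    simp
  | tmul a b =>
    obtain ⟨Na, ha⟩ := exists_mem_FN hconn a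
    obtain ⟨Nb, hb⟩ := exists_mem_FN hconn b
    refine ⟨max Na Nb, fun N' hN' m n => ?_⟩
    have ha' : a ∈ FN (k := k) N' := FN_mono (le_trans (le_max_left _ _) hN') ha
    have hb' : b ∈ FN (k := k) N' := FN_mono (le_trans (le_max_right _ _) hN') hb
    rw [TensorProduct.map_tmul, Psi_eq_sum_eW hconn ha' m, Psi_eq_sum_eW hconn hb' n,
      TensorProduct.sum_tmul]
    refine Finset.sum_congr rfl fun s _ => ?_
    rw [TensorProduct.tmul_sum]
    refine Finset.sum_congr rfl fun u _ => ?_
    rw [TensorProduct.map_tmul, TensorProduct.smul_tmul_smul]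
  | add x y hx hy =>
    obtain ⟨N1, h1⟩ := hx
    obtain ⟨N2, h2⟩ := hy
    refine ⟨max N1 N2, fun N' hN' m n => ?_⟩
    rw [map_add, h1 N' (le_trans (le_max_left _ _) hN') m n,
      h2 N' (le_trans (le_max_right _ _) hN') m n, ← Finset.sum_add_distrib]
    refine Finset.sum_congr rfl fun s _ => ?_
    rw [← Finset.sum_add_distrib]
    refine Finset.sum_congr rfl fun u _ => ?_
    rw [map_add, smul_add]

theorem map_eW_zero_left (hconn : SGA3y.IsConnectedCoalg k H) (g : H →ₗ[k] H) (t : H ⊗[k] H) :
    TensorProduct.map (eW hconn 0) g t =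
      (1 : H) ⊗ₜ[k] g (TensorProduct.lid k H (((Coalgebra.counit (R := k) (A := H)).rTensor H) t)) := by
  induction t using TensorProduct.induction_on with
  | zero => simp
  | tmul a b =>
    rw [TensorProduct.map_tmul, eW_zero_apply, LinearMap.rTensor_tmul, TensorProduct.lid_tmul,
      map_smul, TensorProduct.tmul_smul, Algebra.algebraMap_eq_smul_one, TensorProduct.smul_tmul']
  | add a b ha hb => simp only [map_add, ha, hb, TensorProduct.tmul_add]

theorem map_eW_zero_right (hconn : SGA3y.IsConnectedCoalg k H) (g : H →ₗ[k] H) (t : H ⊗[k] H) :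
    TensorProduct.map g (eW hconn 0) t =
      g (TensorProduct.rid k H (((Coalgebra.counit (R := k) (A := H)).lTensor H) t)) ⊗ₜ[k] (1 : H) := by
  induction t using TensorProduct.induction_on with
  | zero => simp
  | tmul a b =>
    rw [TensorProduct.map_tmul, eW_zero_apply, LinearMap.lTensor_tmul, TensorProduct.rid_tmul,
      map_smul, Algebra.algebraMap_eq_smul_one, TensorProduct.tmul_smul]
    exact (TensorProduct.smul_tmul' _ _ _).symm
  | add a b ha hb => simp only [map_add, ha, hb, TensorProduct.add_tmul]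

/-- Weight-one elements are primitive. -/
theorem comul_of_mem_W_one (hconn : SGA3y.IsConnectedCoalg k H) {y : H} (hy : y ∈ W (k := k) 1) :
    Coalgebra.comul (R := k) y = y ⊗ₜ[k] (1 : H) + (1 : H) ⊗ₜ[k] y := by
  obtain ⟨N0, hN0⟩ := exists_tensor_expansion hconn (Coalgebra.comul (R := k) y)
  have hexp := hN0 (max N0 2) (le_max_left _ _)
  have h1 : ∀ m : ℕ, ∑ s ∈ Finset.range (max N0 2), ∑ u ∈ Finset.range (max N0 2),
      ((m : k) ^ (s + u)) • TensorProduct.map (eW hconn s) (eW hconn u) (Coalgebra.comul (R := k) y) =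
      (m : k) • Coalgebra.comul (R := k) y := by
    intro m
    have h2 := comul_Psi (k := k) (H := H) m y
    rw [hy m, pow_one, map_smul, hexp m m] at h2
    rw [h2]
    refine Finset.sum_congr rfl fun s _ => Finset.sum_congr rfl fun u _ => ?_
    rw [pow_add]
  have h3 := poly_diag_one k _ (le_max_right _ _) _ _ h1
  rw [map_eW_zero_left, map_eW_zero_right, Coalgebra.rTensor_counit_comul,
    Coalgebra.lTensor_counit_comul, TensorProduct.lid_tmul, TensorProduct.rid_tmul, one_smul,
    eW_of_mem_W hconn hy] at h3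
  rw [h3, add_comm]

/-- The key multiplicative decomposition of weight `r + 1` elements. -/
theorem smul_eq_mul'_of_mem_W (hconn : SGA3y.IsConnectedCoalg k H) {r : ℕ} {y : H}
    (hy : y ∈ W (k := k) (r + 1)) :
    ((r + 1 : ℕ) : k) • y = LinearMap.mul' k H
      (TensorProduct.map (eW hconn 1) (eW hconn r) (Coalgebra.comul (R := k) y)) := by
  obtain ⟨N0, hN0⟩ := exists_tensor_expansion hconn (Coalgebra.comul (R := k) y)
  set N := max N0 (r + 2) with hNdef
  have hN2 : r + 2 ≤ N := le_max_right _ _
  have hexp := hN0 N (le_max_left _ _)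
  set G : ℕ → ℕ → H := fun s u => LinearMap.mul' k H
    (TensorProduct.map (eW hconn s) (eW hconn u) (Coalgebra.comul (R := k) y)) with hG
  -- the two-variable identity
  have h1 : ∀ n m : ℕ, ∑ s ∈ Finset.range N, ((m : k) ^ s) • (∑ u ∈ Finset.range N, ((n : k) ^ u) • G s u) =
      ∑ s ∈ Finset.range N, ((m : k) ^ s) • ((((n : k) ^ (r + 1 - s)) * (((r + 1).choose s : ℕ) : k)) • y) := by
    intro n m
    have h2 : (Psi (k := k) (H := H) (m + n)).ofConv y =
        LinearMap.mul' k H (TensorProduct.map (Psi (k := k) (H := H) m).ofConv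
          (Psi (k := k) (H := H) n).ofConv (Coalgebra.comul (R := k) y)) := by
      rw [Psi_add]; rfl
    rw [hy (m + n), hexp m n, map_sum] at h2
    have h3 : ((m + n : ℕ) : k) ^ (r + 1) =
        ∑ s ∈ Finset.range N, ((m : k) ^ s) * (((n : k) ^ (r + 1 - s)) * (((r + 1).choose s : ℕ) : k)) := by
      rw [Nat.cast_add, add_pow]
      rw [Finset.sum_subset (Finset.range_mono hN2)]
      · refine Finset.sum_congr rfl fun s _ => ?_
        rw [mul_assoc]
      · intro s _ hs
        have hs' : r + 1 < s := by
          simp only [Finset.mem_range, not_lt] at hs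
          omega
        rw [Nat.choose_eq_zero_of_lt hs', Nat.cast_zero, mul_zero]
    rw [h3, Finset.sum_smul] at h2
    rw [Finset.sum_congr rfl fun s _ => (smul_smul _ _ _)]
    rw [h2]
    refine Finset.sum_congr rfl fun s _ => ?_
    rw [map_sum, Finset.smul_sum]
    refine Finset.sum_congr rfl fun u _ => ?_
    rw [map_smul, smul_smul]
  -- coefficient of `m^1`
  have h4 : ∀ n : ℕ, ∑ u ∈ Finset.range N, ((n : k) ^ u) • G 1 u =
      ∑ u ∈ Finset.range N, ((n : k) ^ u) • (if u = r then ((r + 1 : ℕ) : k) • y else 0) := by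
    intro n
    have h5 := poly_coeff_eq k N _ _ (h1 n) 1 (by omega)
    rw [h5]
    simp only [smul_ite, smul_zero]
    rw [Finset.sum_ite_eq', if_pos (Finset.mem_range.mpr (by omega))]
    rw [Nat.add_sub_cancel, Nat.choose_one_right, smul_smul]
  have h6 := poly_coeff_eq k N _ _ h4 r (by omega)
  rw [if_pos rfl] at h6
  exact h6.symm

/-- All weight spaces lie in any subalgebra containing the weight-one space. -/
theorem W_le_of_W_one_le (hconn : SGA3y.IsConnectedCoalg k H) (S : Subalgebra k H)
    (hS : ∀ y ∈ W (k := k) (H := H) 1, y ∈ S) : ∀ (r : ℕ) (y : H), y ∈ W (k := k) r → y ∈ S := by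
  intro r
  induction r with
  | zero =>
    intro y hy
    rw [eq_of_mem_W_zero hy]
    exact S.algebraMap_mem _
  | succ r ih =>
    intro y hy
    rcases Nat.eq_zero_or_pos r with rfl | hr
    · exact hS y hy
    · have h1 := smul_eq_mul'_of_mem_W hconn hy
      have h2 : ∀ t : H ⊗[k] H, LinearMap.mul' k H
          (TensorProduct.map (eW hconn 1) (eW hconn r) t) ∈ S := by
        intro t
        induction t using TensorProduct.induction_on with
        | zero => simp
        | tmul a b =>
          rw [TensorProduct.map_tmul, LinearMap.mul'_apply]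
          exact S.mul_mem (hS _ (eW_mem_W hconn 1 a)) (ih _ (eW_mem_W hconn r b))
        | add a b ha hb =>
          rw [map_add, map_add]
          exact S.add_mem ha hb
      have h3 : ((r + 1 : ℕ) : k) • y ∈ S := by
        rw [h1]; exact h2 _
      have hne : ((r + 1 : ℕ) : k) ≠ 0 := by exact_mod_cast Nat.succ_ne_zero r
      have h4 := S.smul_mem h3 (((r + 1 : ℕ) : k)⁻¹)
      rwa [smul_smul, inv_mul_cancel₀ hne, one_smul] at h4

/-- A subalgebra containing the weight-one elements is everything. -/
theorem mem_of_W_one_le (hconn : SGA3y.IsConnectedCoalg k H) (S : Subalgebra k H)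
    (hS : ∀ y ∈ W (k := k) (H := H) 1, y ∈ S) (x : H) : x ∈ S := by
  obtain ⟨N, hx⟩ := exists_mem_FN hconn x
  rw [sum_eW hconn hx]
  exact S.sum_mem fun r _ => W_le_of_W_one_le hconn S hS r _ (eW_mem_W hconn r x)

/-- A subalgebra containing the primitive elements is everything. -/
theorem mem_of_prim_le (hconn : SGA3y.IsConnectedCoalg k H) (S : Subalgebra k H)
    (hS : ∀ y : H, Coalgebra.comul (R := k) y = y ⊗ₜ[k] (1 : H) + (1 : H) ⊗ₜ[k] y → y ∈ S)
    (x : H) : x ∈ S :=
  mem_of_W_one_le hconn S (fun y hy => hS y (comul_of_mem_W_one hconn hy)) x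

end Conn

end Groth.Agent.Lib.Helper84.CMM
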