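import Groth.Agent.Lib.Helper84.CMM.UPrim
import Mathlib.RingTheory.Bialgebra.Basic
import Mathlib.LinearAlgebra.Basis.VectorSpace
import Mathlib.Order.Extension.Well

/-!
# Injectivity of `U(L) → H` for an injective Lie map into the primitives (characteristic zero)
-/

set_option linter.unusedSectionVars false
set_option linter.unusedVariables false
set_option linter.style.longLine false

universe u v w

open TensorProduct

namespace Groth.Agent.Lib.Helper84.CMM

attribute [local instance 100] LieRing.ofAssociativeRing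

open Groth.Agent.Lib.Helper85.PBW (mon mon_cons mon_nil)

section

variable {k : Type u} [Field k] [CharZero k] {L : Type v} [LieRing L] [LieAlgebra k L]

/-- Every element of `U(L)` lies in some step of the filtration. -/
theorem exists_mem_Ufil (x : UniversalEnvelopingAlgebra k L) :
    ∃ n : ℕ, x ∈ Ufil (k := k) (L := L) n := by
  classical
  letI : LinearOrder (Module.Basis.ofVectorSpaceIndex k L) :=
    IsWellOrder.linearOrder WellOrderingRel
  obtain ⟨B, hB⟩ := Groth.Agent.S3312.result k L _ (Module.Basis.ofVectorSpace k L)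
  have hx : x ∈ Submodule.span k (Set.range B) := by
    rw [B.span_eq]; trivial
  induction hx using Submodule.span_induction with
  | mem y hy =>
    obtain ⟨l, rfl⟩ := hy
    refine ⟨(l.1.map (Module.Basis.ofVectorSpace k L)).length, ?_⟩
    rw [hB]
    have := list_prod_mem_Ufil (k := k) (L := L) (l.1.map (Module.Basis.ofVectorSpace k L))
    rw [List.map_map] at this
    exact this
  | zero => exact ⟨0, zero_mem _⟩
  | add y z _ _ hy hz =>
    obtain ⟨n1, h1⟩ := hy
    obtain ⟨n2, h2⟩ := hz
    exact ⟨max n1 n2, add_mem (Ufil_mono (le_max_left _ _) h1) (Ufil_mono (le_max_right _ _) h2)⟩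
  | smul c y _ hy =>
    obtain ⟨n, h⟩ := hy
    exact ⟨n, Submodule.smul_mem _ _ h⟩

variable {H : Type w} [Ring H] [Bialgebra k H]

theorem map_lift_deltaU (f : L →ₗ⁅k⁆ H)
    (hf : ∀ z, Coalgebra.comul (R := k) (f z) = f z ⊗ₜ[k] (1 : H) + (1 : H) ⊗ₜ[k] f z)
    (x : UniversalEnvelopingAlgebra k L) :
    Algebra.TensorProduct.map (UniversalEnvelopingAlgebra.lift k f)
      (UniversalEnvelopingAlgebra.lift k f) (deltaU (k := k) x) =
      Coalgebra.comul (R := k) (UniversalEnvelopingAlgebra.lift k f x) := by
  have h : (Algebra.TensorProduct.map (UniversalEnvelopingAlgebra.lift k f)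
      (UniversalEnvelopingAlgebra.lift k f)).comp (deltaU (k := k) (L := L)) =
      (Bialgebra.comulAlgHom k H).comp (UniversalEnvelopingAlgebra.lift k f) := by
    apply UniversalEnvelopingAlgebra.hom_ext
    apply LieHom.ext
    intro z
    change Algebra.TensorProduct.map (UniversalEnvelopingAlgebra.lift k f)
      (UniversalEnvelopingAlgebra.lift k f) (deltaU (k := k) (UniversalEnvelopingAlgebra.ι k z)) =
      Coalgebra.comul (R := k) (UniversalEnvelopingAlgebra.lift k f (UniversalEnvelopingAlgebra.ι k z))
    rw [deltaU_ι, map_add, Algebra.TensorProduct.map_tmul, Algebra.TensorProduct.map_tmul,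
      UniversalEnvelopingAlgebra.lift_ι_apply, map_one, hf]
  exact AlgHom.congr_fun h x

theorem map_lift_Dred (f : L →ₗ⁅k⁆ H)
    (hf : ∀ z, Coalgebra.comul (R := k) (f z) = f z ⊗ₜ[k] (1 : H) + (1 : H) ⊗ₜ[k] f z)
    (x : UniversalEnvelopingAlgebra k L) (hx : UniversalEnvelopingAlgebra.lift k f x = 0) :
    TensorProduct.map (UniversalEnvelopingAlgebra.lift k f).toLinearMap
      (UniversalEnvelopingAlgebra.lift k f).toLinearMap (Dred (k := k) x) = 0 := by
  rw [Dred_apply, map_sub, map_sub]
  have h1 := map_lift_deltaU f hf x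
  have h1' : TensorProduct.map (UniversalEnvelopingAlgebra.lift k f).toLinearMap
      (UniversalEnvelopingAlgebra.lift k f).toLinearMap (deltaU (k := k) x) =
      Coalgebra.comul (R := k) (UniversalEnvelopingAlgebra.lift k f x) := h1
  rw [h1', TensorProduct.map_tmul, TensorProduct.map_tmul]
  change _ - (UniversalEnvelopingAlgebra.lift k f x) ⊗ₜ[k] (UniversalEnvelopingAlgebra.lift k f 1) -
    (UniversalEnvelopingAlgebra.lift k f 1) ⊗ₜ[k] (UniversalEnvelopingAlgebra.lift k f x) = 0
  rw [hx, map_zero, TensorProduct.zero_tmul, TensorProduct.tmul_zero, sub_zero, sub_zero]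

/-- Injectivity on each step of the filtration. -/
theorem lift_injOn_Ufil (f : L →ₗ⁅k⁆ H) (hinj : Function.Injective f)
    (hf : ∀ z, Coalgebra.comul (R := k) (f z) = f z ⊗ₜ[k] (1 : H) + (1 : H) ⊗ₜ[k] f z) :
    ∀ (n : ℕ) (x : UniversalEnvelopingAlgebra k L), x ∈ Ufil (k := k) (L := L) n →
      UniversalEnvelopingAlgebra.lift k f x = 0 → x = 0 := by
  classical
  intro n
  induction n with
  | zero =>
    intro x hx h0
    rw [Ufil_zero] at hx
    obtain ⟨c, rfl⟩ := Submodule.mem_one.mp hx
    rw [AlgHom.commutes] at h0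
    have h1 := congrArg (Coalgebra.counit (R := k)) h0
    rw [Bialgebra.counit_algebraMap, map_zero] at h1
    have h2 : c = 0 := by simpa using h1
    rw [h2, map_zero]
  | succ n ih =>
    intro x hx h0
    obtain ⟨w, hw⟩ := Dred_mem_Tfil n x hx
    set Φn : Ufil (k := k) (L := L) n →ₗ[k] H :=
      (UniversalEnvelopingAlgebra.lift k f).toLinearMap ∘ₗ (Ufil (k := k) (L := L) n).subtype with hΦn
    have hΦinj : Function.Injective Φn := by
      rw [← LinearMap.ker_eq_bot, LinearMap.ker_eq_bot']
      intro y hy
      exact Subtype.ext (ih y.1 y.2 hy)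
    have hmapinj : Function.Injective (TensorProduct.map Φn Φn) :=
      TensorProduct.map_injective_of_flat_flat Φn Φn hΦinj hΦinj
    have h1 := map_lift_Dred f hf x h0
    rw [← hw, ← LinearMap.comp_apply, ← TensorProduct.map_comp] at h1
    have hw0 : w = 0 := hmapinj (by rw [map_zero]; exact h1)
    rw [hw0, map_zero] at hw
    -- `x` is primitive
    have hprim : deltaU (k := k) x = x ⊗ₜ[k] (1 : UniversalEnvelopingAlgebra k L) +
        (1 : UniversalEnvelopingAlgebra k L) ⊗ₜ[k] x := by
      have := hw.symm
      rw [Dred_apply, sub_sub, sub_eq_zero] at this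
      exact this
    letI : LinearOrder (Module.Basis.ofVectorSpaceIndex k L) :=
      IsWellOrder.linearOrder WellOrderingRel
    obtain ⟨z, rfl⟩ := mem_range_ι_of_prim (Module.Basis.ofVectorSpace k L) x hprim
    change UniversalEnvelopingAlgebra.lift k f (UniversalEnvelopingAlgebra.ι k z) = 0 at h0
    rw [UniversalEnvelopingAlgebra.lift_ι_apply] at h0
    have hz : z = 0 := hinj (by rw [h0, map_zero])
    rw [hz, map_zero]

/-- An injective Lie algebra map into the primitive elements of a bialgebra induces an injective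
map from the universal enveloping algebra (characteristic zero). -/
theorem lift_injective_of_prim (f : L →ₗ⁅k⁆ H) (hinj : Function.Injective f)
    (hf : ∀ z, Coalgebra.comul (R := k) (f z) = f z ⊗ₜ[k] (1 : H) + (1 : H) ⊗ₜ[k] f z) :
    Function.Injective (UniversalEnvelopingAlgebra.lift k f) := by
  rw [injective_iff_map_eq_zero]
  intro x hx
  obtain ⟨n, hn⟩ := exists_mem_Ufil (k := k) x
  exact lift_injOn_Ufil f hinj hf n x hn hx

end

end Groth.Agent.Lib.Helper84.CMM
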