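import Groth.Agent.Lib.Helper84.CMM.ConnNilp

/-!
# Local nilpotence of `π = id - ηε` on a connected cocommutative bialgebra
-/

set_option linter.unusedSectionVars false
set_option linter.unusedVariables false
set_option linter.style.longLine false

universe u v

open TensorProduct WithConv

namespace Groth.Agent.Lib.Helper84.CMM

open Groth.Agent.H40

section Bialg

variable {k : Type u} [Field k] {H : Type v} [Ring H] [Bialgebra k H] [Coalgebra.IsCocomm k H]

theorem sup_pow_le' {R : Type*} [CommRing R] (I K : Ideal R) (n : ℕ) (hn : 0 < n) :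
    (I ⊔ K) ^ n ≤ I ^ n ⊔ K := by
  induction n with
  | zero => exact absurd hn (lt_irrefl 0)
  | succ n ih =>
    rcases Nat.eq_zero_or_pos n with rfl | hpos
    · simp
    · rw [pow_succ]
      refine le_trans (Ideal.mul_mono_left (ih hpos)) ?_
      rw [Ideal.sup_mul, Ideal.mul_sup, Ideal.mul_sup]
      refine sup_le (sup_le ?_ ?_) (sup_le ?_ ?_)
      · rw [← pow_succ]; exact le_sup_left
      · exact le_trans Ideal.mul_le_right le_sup_right
      · exact le_trans Ideal.mul_le_left le_sup_right
      · exact le_trans Ideal.mul_le_left le_sup_right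

/-- A power of the augmentation ideal kills a finite-dimensional subcoalgebra. -/
theorem exists_Jaug_pow_le_Kann (hconn : SGA3y.IsConnectedCoalg k H) (D : Submodule k H)
    [Module.Finite k D]
    (hD : ∀ d ∈ D, Coalgebra.comul (R := k) d ∈
      LinearMap.range (TensorProduct.map D.subtype D.subtype)) :
    ∃ n : ℕ, (Jaug (k := k) (H := H)) ^ n ≤ Kann D := by
  classical
  -- restriction of functionals to `D`
  let r : WithConv (H →ₗ[k] k) →ₗ[k] Module.Dual k D :=
    { toFun := fun φ => φ.ofConv ∘ₗ D.subtype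
      map_add' := fun a b => by ext; simp
      map_smul' := fun c a => by ext; simp }
  have hr : ∀ φ (d : D), r φ d = φ (d : H) := fun φ d => rfl
  -- the image of the augmentation ideal is finitely generated
  have hfg : (Submodule.map r ((Jaug (k := k) (H := H)).restrictScalars k)).FG :=
    IsNoetherian.noetherian _
  obtain ⟨S, hS⟩ := hfg
  have hSmem : ∀ s ∈ S, ∃ φ ∈ Jaug (k := k) (H := H), r φ = s := by
    intro s hs
    have : s ∈ Submodule.map r ((Jaug (k := k) (H := H)).restrictScalars k) := by
      rw [← hS]; exact Submodule.subset_span hs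
    obtain ⟨φ, hφ, rfl⟩ := this
    exact ⟨φ, hφ, rfl⟩
  choose! g hgJ hgr using hSmem
  set J₀ : Ideal (WithConv (H →ₗ[k] k)) := Ideal.span ((S.image g : Finset _) : Set _) with hJ₀
  have hJ₀fg : J₀.FG := ⟨S.image g, rfl⟩
  have hJ₀le : J₀ ≤ Jaug (k := k) (H := H) := by
    rw [hJ₀, Ideal.span_le]
    intro φ hφ
    rw [Finset.coe_image] at hφ
    obtain ⟨s, hs, rfl⟩ := hφ
    exact hgJ s hs
  have hrad : J₀ ≤ (Kann D).radical := by
    intro φ hφ
    exact exists_pow_mem_Kann hconn D hD (hJ₀le hφ)
  obtain ⟨n, hn⟩ := Ideal.exists_pow_le_of_le_radical_of_fg hrad hJ₀fg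
  -- `Jaug ≤ J₀ ⊔ Kann D`
  have hle : Jaug (k := k) (H := H) ≤ J₀ ⊔ Kann D := by
    intro φ hφ
    have h1 : r φ ∈ Submodule.span k (S : Set (Module.Dual k D)) := by
      rw [hS]; exact ⟨φ, hφ, rfl⟩
    -- the span of `S` is the image under `r` of the `k`-span of `g '' S`
    have h2 : Submodule.span k (S : Set (Module.Dual k D)) ≤
        Submodule.map r (Submodule.span k ((S.image g : Finset _) : Set (WithConv (H →ₗ[k] k)))) := by
      rw [Submodule.span_le]
      intro s hs
      refine ⟨g s, Submodule.subset_span ?_, hgr s hs⟩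
      rw [Finset.coe_image]
      exact ⟨s, hs, rfl⟩
    obtain ⟨ψ, hψ, hψr⟩ := h2 h1
    have hψJ₀ : ψ ∈ J₀ := by
      have : Submodule.span k ((S.image g : Finset _) : Set (WithConv (H →ₗ[k] k))) ≤
          J₀.restrictScalars k := by
        rw [Submodule.span_le]
        intro x hx
        exact Ideal.subset_span hx
      exact this hψ
    have hdiff : φ - ψ ∈ Kann D := by
      apply mem_Kann_of_vanish hD
      intro d hd
      have := LinearMap.congr_fun hψr ⟨d, hd⟩
      rw [hr, hr] at this
      change (φ - ψ).ofConv d = 0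
      have h3 : (φ - ψ).ofConv d = φ.ofConv d - ψ.ofConv d := by simp
      rw [h3]
      exact sub_eq_zero.mpr this.symm
    have : φ = ψ + (φ - ψ) := by abel
    rw [this]
    exact Submodule.add_mem_sup hψJ₀ hdiff
  refine ⟨n + 1, ?_⟩
  refine le_trans (Ideal.pow_right_mono hle (n + 1)) ?_
  refine le_trans (sup_pow_le' J₀ (Kann D) (n + 1) (Nat.succ_pos n)) ?_
  refine sup_le ?_ le_rfl
  exact le_trans (Ideal.pow_le_pow_right (Nat.le_succ n)) hn

/-- The filtration `Zf n = {x | Jⁿ ⇀ x = 0}`. -/
def Zf (n : ℕ) : Submodule k H where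
  carrier := {x | ∀ φ ∈ (Jaug (k := k) (H := H)) ^ n, L φ x = 0}
  add_mem' := by
    intro a b ha hb φ hφ
    rw [map_add, ha φ hφ, hb φ hφ, add_zero]
  zero_mem' := by
    intro φ _
    rw [map_zero]
  smul_mem' := by
    intro c x hx φ hφ
    rw [map_smul, hx φ hφ, smul_zero]

theorem mem_Zf {n : ℕ} {x : H} :
    x ∈ Zf (k := k) n ↔ ∀ φ ∈ (Jaug (k := k) (H := H)) ^ n, L φ x = 0 := Iff.rfl

/-- Every element of a connected cocommutative bialgebra lies in some `Zf n`. -/
theorem exists_mem_Zf (hconn : SGA3y.IsConnectedCoalg k H) (x : H) :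
    ∃ n : ℕ, x ∈ Zf (k := k) n := by
  obtain ⟨D, hDfin, hxD, hD⟩ := Groth.Agent.S8220.result (k := k) (A := H) {x}
  obtain ⟨n, hn⟩ := exists_Jaug_pow_le_Kann hconn D hD
  refine ⟨n, fun φ hφ => ?_⟩
  exact hn hφ x (hxD (by simp))

/-- `π = id - ηε` in the convolution algebra. -/
noncomputable def piC : WithConv (H →ₗ[k] H) := toConv LinearMap.id - 1

theorem piC_apply (x : H) :
    (piC (k := k) (H := H)) x = x - algebraMap k H (Coalgebra.counit x) := by
  simp [piC]

theorem piC_one : (piC (k := k) (H := H)) 1 = 0 := by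
  rw [piC_apply, Bialgebra.counit_one, map_one, sub_self]

/-- On `Zf n`, the `j`-th convolution power of `π` vanishes for `j ≥ n`. -/
theorem piC_pow_eq_zero_of_mem_Zf : ∀ (n : ℕ) (x : H), x ∈ Zf (k := k) n →
    ∀ j, n ≤ j → ((piC (k := k) (H := H)) ^ j) x = 0 := by
  intro n
  induction n with
  | zero =>
    intro x hx j _
    have h1 : L (1 : WithConv (H →ₗ[k] k)) x = 0 := hx 1 (by simp)
    rw [L_one] at h1
    rw [h1, map_zero]
  | succ n ih =>
    intro x hx j hj
    obtain ⟨j', rfl⟩ : ∃ j', j = j' + 1 := ⟨j - 1, by omega⟩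
    have hj' : n ≤ j' := by omega
    rw [pow_succ, LinearMap.convMul_apply]
    -- `t = (id ⊗ π) Δ x` lies in `Zf n ⊗ H`
    have ht : ((piC (k := k) (H := H)).ofConv.lTensor H) (Coalgebra.comul (R := k) x) ∈
        LinearMap.range ((Zf (k := k) (H := H) n).subtype.rTensor H) := by
      apply mem_range_rTensor_subtype_of_forall_slice
      intro ψ
      have e1 : slice ψ (((piC (k := k) (H := H)).ofConv.lTensor H) (Coalgebra.comul (R := k) x)) =
          L (toConv (ψ ∘ₗ (piC (k := k) (H := H)).ofConv)) x := by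
        rw [L_apply]
        generalize Coalgebra.comul (R := k) x = t
        induction t using TensorProduct.induction_on with
        | zero => simp
        | tmul a b => simp
        | add a b ha hb => simp only [map_add, ha, hb]
      rw [e1]
      intro φ hφ
      rw [← L_mul]
      apply hx
      have hJ : toConv (ψ ∘ₗ (piC (k := k) (H := H)).ofConv) ∈ Jaug (k := k) (H := H) := by
        rw [mem_Jaug]
        change ψ ((piC (k := k) (H := H)) 1) = 0
        rw [piC_one, map_zero]
      have := Ideal.mul_mem_mul hφ hJ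
      exact this
    obtain ⟨z, hz⟩ := ht
    have e2 : TensorProduct.map ((piC (k := k) (H := H)) ^ j').ofConv (piC (k := k) (H := H)).ofConv
        (Coalgebra.comul (R := k) x) =
        ((((piC (k := k) (H := H)) ^ j').ofConv).rTensor H)
          (((piC (k := k) (H := H)).ofConv.lTensor H) (Coalgebra.comul (R := k) x)) := by
      generalize Coalgebra.comul (R := k) x = t
      induction t using TensorProduct.induction_on with
      | zero => simp
      | tmul a b => simp
      | add a b ha hb => simp only [map_add, ha, hb]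
    rw [e2, ← hz]
    have e3 : ∀ z : (Zf (k := k) (H := H) n) ⊗[k] H,
        ((((piC (k := k) (H := H)) ^ j').ofConv).rTensor H)
          (((Zf (k := k) (H := H) n).subtype.rTensor H) z) = 0 := by
      intro z
      induction z using TensorProduct.induction_on with
      | zero => simp
      | tmul a b =>
        have := ih (a : H) a.2 j' hj'
        simp only [LinearMap.rTensor_tmul, Submodule.subtype_apply]
        change (((piC (k := k) (H := H)) ^ j') (a : H)) ⊗ₜ[k] b = 0
        rw [this, TensorProduct.zero_tmul]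
      | add a b ha hb => simp only [map_add, ha, hb, add_zero]
    rw [e3, map_zero]

/-- Local nilpotence of `π` on a connected cocommutative bialgebra. -/
theorem exists_pow_pi_eq_zero (hconn : SGA3y.IsConnectedCoalg k H) (x : H) :
    ∃ n : ℕ, ∀ j, n ≤ j → ((piC (k := k) (H := H)) ^ j) x = 0 := by
  obtain ⟨n, hn⟩ := exists_mem_Zf hconn x
  exact ⟨n, piC_pow_eq_zero_of_mem_Zf n x hn⟩

end Bialg

end Groth.Agent.Lib.Helper84.CMM
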