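import Mathlib.Algebra.Lie.UniversalEnveloping
import Mathlib.RingTheory.TensorProduct.Basic
import Mathlib.Algebra.Algebra.Operations
import Mathlib.RingTheory.Flat.Basic
import Mathlib.LinearAlgebra.Span.Defs

/-!
# The comultiplication on a universal enveloping algebra and its filtration

`deltaU : U →ₐ U ⊗ U` with `ι x ↦ ι x ⊗ 1 + 1 ⊗ ι x`, `epsU : U →ₐ k`, the reduced
comultiplication `Dred x = Δ x - x ⊗ 1 - 1 ⊗ x`, and the filtration `Ufil n = (k·1 + ι L)^n`.
-/

set_option linter.unusedSectionVars false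
set_option linter.unusedVariables false
set_option linter.style.longLine false

universe u v

open TensorProduct

namespace Groth.Agent.Lib.Helper84.CMM

attribute [local instance 100] LieRing.ofAssociativeRing

section U

variable {k : Type u} [Field k] {L : Type v} [LieRing L] [LieAlgebra k L]

/-- `x ↦ ι x ⊗ 1 + 1 ⊗ ι x` as a Lie algebra map. -/
noncomputable def deltaLie :
    L →ₗ⁅k⁆ (UniversalEnvelopingAlgebra k L ⊗[k] UniversalEnvelopingAlgebra k L) :=
  { toFun := fun x => UniversalEnvelopingAlgebra.ι k x ⊗ₜ[k] (1 : UniversalEnvelopingAlgebra k L) +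
      (1 : UniversalEnvelopingAlgebra k L) ⊗ₜ[k] UniversalEnvelopingAlgebra.ι k x
    map_add' := by
      intro x y
      rw [map_add, TensorProduct.add_tmul, TensorProduct.tmul_add]
      abel
    map_smul' := by
      intro c x
      rw [map_smul, RingHom.id_apply, smul_add, TensorProduct.smul_tmul', TensorProduct.tmul_smul]
    map_lie' := by
      intro x y
      simp only [LieHom.map_lie, LieRing.of_associative_ring_bracket, add_mul, mul_add,
        Algebra.TensorProduct.tmul_mul_tmul, one_mul, mul_one, TensorProduct.sub_tmul,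
        TensorProduct.tmul_sub]
      abel }

theorem deltaLie_apply (x : L) :
    deltaLie (k := k) x = UniversalEnvelopingAlgebra.ι k x ⊗ₜ[k] (1 : UniversalEnvelopingAlgebra k L) +
      (1 : UniversalEnvelopingAlgebra k L) ⊗ₜ[k] UniversalEnvelopingAlgebra.ι k x := rfl

/-- The comultiplication of the universal enveloping algebra. -/
noncomputable def deltaU :
    UniversalEnvelopingAlgebra k L →ₐ[k]
      UniversalEnvelopingAlgebra k L ⊗[k] UniversalEnvelopingAlgebra k L :=
  UniversalEnvelopingAlgebra.lift k deltaLie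

theorem deltaU_ι (x : L) :
    deltaU (k := k) (UniversalEnvelopingAlgebra.ι k x) =
      UniversalEnvelopingAlgebra.ι k x ⊗ₜ[k] (1 : UniversalEnvelopingAlgebra k L) +
      (1 : UniversalEnvelopingAlgebra k L) ⊗ₜ[k] UniversalEnvelopingAlgebra.ι k x :=
  UniversalEnvelopingAlgebra.lift_ι_apply k deltaLie x

/-- The counit of the universal enveloping algebra. -/
noncomputable def epsU : UniversalEnvelopingAlgebra k L →ₐ[k] k :=
  UniversalEnvelopingAlgebra.lift k (0 : L →ₗ⁅k⁆ k)

theorem epsU_ι (x : L) : epsU (k := k) (UniversalEnvelopingAlgebra.ι k x) = 0 :=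
  UniversalEnvelopingAlgebra.lift_ι_apply k (0 : L →ₗ⁅k⁆ k) x

/-- The reduced comultiplication `x ↦ Δ x - x ⊗ 1 - 1 ⊗ x`. -/
noncomputable def Dred :
    UniversalEnvelopingAlgebra k L →ₗ[k]
      UniversalEnvelopingAlgebra k L ⊗[k] UniversalEnvelopingAlgebra k L :=
  (deltaU (k := k) (L := L)).toLinearMap -
    (TensorProduct.mk k (UniversalEnvelopingAlgebra k L) (UniversalEnvelopingAlgebra k L)).flip 1 -
    (TensorProduct.mk k (UniversalEnvelopingAlgebra k L) (UniversalEnvelopingAlgebra k L)) 1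

theorem Dred_apply (x : UniversalEnvelopingAlgebra k L) :
    Dred (k := k) x = deltaU x - x ⊗ₜ[k] (1 : UniversalEnvelopingAlgebra k L) -
      (1 : UniversalEnvelopingAlgebra k L) ⊗ₜ[k] x := rfl

theorem Dred_one : Dred (k := k) (L := L) 1 =
    - ((1 : UniversalEnvelopingAlgebra k L) ⊗ₜ[k] (1 : UniversalEnvelopingAlgebra k L)) := by
  rw [Dred_apply, map_one, Algebra.TensorProduct.one_def]
  abel

theorem Dred_ι (x : L) : Dred (k := k) (UniversalEnvelopingAlgebra.ι k x) = 0 := by
  rw [Dred_apply, deltaU_ι]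
  abel

theorem Dred_ι_mul (z : L) (a : UniversalEnvelopingAlgebra k L) :
    Dred (k := k) (UniversalEnvelopingAlgebra.ι k z * a) =
      (UniversalEnvelopingAlgebra.ι k z ⊗ₜ[k] (1 : UniversalEnvelopingAlgebra k L)) * Dred a +
      ((1 : UniversalEnvelopingAlgebra k L) ⊗ₜ[k] UniversalEnvelopingAlgebra.ι k z) * Dred a +
      UniversalEnvelopingAlgebra.ι k z ⊗ₜ[k] a + a ⊗ₜ[k] UniversalEnvelopingAlgebra.ι k z := by
  simp only [Dred_apply, map_mul, deltaU_ι, add_mul, mul_sub, Algebra.TensorProduct.tmul_mul_tmul,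
    one_mul, mul_one]
  abel

/-- The generating subspace `k·1 + ι L`. -/
noncomputable def Ugen : Submodule k (UniversalEnvelopingAlgebra k L) :=
  1 ⊔ LinearMap.range (UniversalEnvelopingAlgebra.ι k : L →ₗ⁅k⁆ UniversalEnvelopingAlgebra k L).toLinearMap

/-- The standard filtration of the universal enveloping algebra. -/
noncomputable def Ufil (n : ℕ) : Submodule k (UniversalEnvelopingAlgebra k L) :=
  (Ugen (k := k) (L := L)) ^ n

theorem one_mem_Ugen : (1 : UniversalEnvelopingAlgebra k L) ∈ Ugen (k := k) (L := L) :=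
  Submodule.mem_sup_left (Submodule.one_le.mp le_rfl)

theorem ι_mem_Ugen (z : L) : UniversalEnvelopingAlgebra.ι k z ∈ Ugen (k := k) (L := L) :=
  Submodule.mem_sup_right ⟨z, rfl⟩

theorem Ufil_zero : Ufil (k := k) (L := L) 0 = 1 := pow_zero _

theorem Ufil_succ (n : ℕ) : Ufil (k := k) (L := L) (n + 1) = Ugen * Ufil n := pow_succ' _ _

theorem Ufil_le_succ (n : ℕ) : Ufil (k := k) (L := L) n ≤ Ufil (n + 1) := by
  rw [Ufil_succ]
  intro x hx
  have := Submodule.mul_mem_mul (one_mem_Ugen (k := k) (L := L)) hx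
  rwa [one_mul] at this

theorem Ufil_mono {m n : ℕ} (h : m ≤ n) : Ufil (k := k) (L := L) m ≤ Ufil n := by
  induction h with
  | refl => exact le_rfl
  | step _ ih => exact le_trans ih (Ufil_le_succ _)

theorem one_mem_Ufil (n : ℕ) : (1 : UniversalEnvelopingAlgebra k L) ∈ Ufil (k := k) (L := L) n := by
  apply Ufil_mono (Nat.zero_le n)
  rw [Ufil_zero]
  exact Submodule.one_le.mp le_rfl

theorem ι_mul_mem_Ufil (z : L) {n : ℕ} {a : UniversalEnvelopingAlgebra k L}
    (ha : a ∈ Ufil (k := k) (L := L) n) :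
    UniversalEnvelopingAlgebra.ι k z * a ∈ Ufil (k := k) (L := L) (n + 1) := by
  rw [Ufil_succ]
  exact Submodule.mul_mem_mul (ι_mem_Ugen z) ha

theorem ι_mem_Ufil (z : L) {n : ℕ} (hn : 1 ≤ n) :
    UniversalEnvelopingAlgebra.ι k z ∈ Ufil (k := k) (L := L) n := by
  apply Ufil_mono hn
  have := ι_mul_mem_Ufil z (one_mem_Ufil (k := k) (L := L) 0)
  rwa [mul_one] at this

/-- The image of `Ufil n ⊗ Ufil n` in `U ⊗ U`. -/
noncomputable def Tfil (n : ℕ) :
    Submodule k (UniversalEnvelopingAlgebra k L ⊗[k] UniversalEnvelopingAlgebra k L) :=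
  LinearMap.range (TensorProduct.map (Ufil (k := k) (L := L) n).subtype (Ufil (k := k) (L := L) n).subtype)

theorem tmul_mem_Tfil {n : ℕ} {a b : UniversalEnvelopingAlgebra k L}
    (ha : a ∈ Ufil (k := k) (L := L) n) (hb : b ∈ Ufil (k := k) (L := L) n) :
    a ⊗ₜ[k] b ∈ Tfil (k := k) (L := L) n :=
  ⟨(⟨a, ha⟩ : Ufil (k := k) (L := L) n) ⊗ₜ[k] (⟨b, hb⟩ : Ufil (k := k) (L := L) n), rfl⟩

theorem Tfil_induction {n : ℕ} {P : UniversalEnvelopingAlgebra k L ⊗[k] UniversalEnvelopingAlgebra k L → Prop}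
    (h0 : P 0)
    (hmul : ∀ a ∈ Ufil (k := k) (L := L) n, ∀ b ∈ Ufil (k := k) (L := L) n, P (a ⊗ₜ[k] b))
    (hadd : ∀ x y, P x → P y → P (x + y)) :
    ∀ t ∈ Tfil (k := k) (L := L) n, P t := by
  rintro t ⟨w, rfl⟩
  induction w using TensorProduct.induction_on with
  | zero => rw [map_zero]; exact h0
  | tmul a b => exact hmul _ a.2 _ b.2
  | add x y hx hy => rw [map_add]; exact hadd _ _ hx hy

theorem Tfil_mono {m n : ℕ} (h : m ≤ n) : Tfil (k := k) (L := L) m ≤ Tfil n := by
  intro t ht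
  refine Tfil_induction (P := fun t => t ∈ Tfil (k := k) (L := L) n) (zero_mem _) ?_ ?_ t ht
  · intro a ha b hb
    exact tmul_mem_Tfil (Ufil_mono h ha) (Ufil_mono h hb)
  · intro x y hx hy
    exact add_mem hx hy

theorem ι_tmul_one_mul_mem (z : L) {n : ℕ}
    {t : UniversalEnvelopingAlgebra k L ⊗[k] UniversalEnvelopingAlgebra k L}
    (ht : t ∈ Tfil (k := k) (L := L) n) :
    (UniversalEnvelopingAlgebra.ι k z ⊗ₜ[k] (1 : UniversalEnvelopingAlgebra k L)) * t ∈
      Tfil (k := k) (L := L) (n + 1) := by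
  refine Tfil_induction (P := fun t => (UniversalEnvelopingAlgebra.ι k z ⊗ₜ[k]
    (1 : UniversalEnvelopingAlgebra k L)) * t ∈ Tfil (k := k) (L := L) (n + 1)) ?_ ?_ ?_ t ht
  · rw [mul_zero]; exact zero_mem _
  · intro a ha b hb
    rw [Algebra.TensorProduct.tmul_mul_tmul, one_mul]
    exact tmul_mem_Tfil (ι_mul_mem_Ufil z ha) (Ufil_le_succ n hb)
  · intro x y hx hy
    rw [mul_add]; exact add_mem hx hy

theorem one_tmul_ι_mul_mem (z : L) {n : ℕ}
    {t : UniversalEnvelopingAlgebra k L ⊗[k] UniversalEnvelopingAlgebra k L}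
    (ht : t ∈ Tfil (k := k) (L := L) n) :
    ((1 : UniversalEnvelopingAlgebra k L) ⊗ₜ[k] UniversalEnvelopingAlgebra.ι k z) * t ∈
      Tfil (k := k) (L := L) (n + 1) := by
  refine Tfil_induction (P := fun t => ((1 : UniversalEnvelopingAlgebra k L) ⊗ₜ[k]
    UniversalEnvelopingAlgebra.ι k z) * t ∈ Tfil (k := k) (L := L) (n + 1)) ?_ ?_ ?_ t ht
  · rw [mul_zero]; exact zero_mem _
  · intro a ha b hb
    rw [Algebra.TensorProduct.tmul_mul_tmul, one_mul]
    exact tmul_mem_Tfil (Ufil_le_succ n ha) (ι_mul_mem_Ufil z hb)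
  · intro x y hx hy
    rw [mul_add]; exact add_mem hx hy

/-- Claim A: the reduced comultiplication lowers the filtration. -/
theorem Dred_mem_Tfil : ∀ (n : ℕ) (x : UniversalEnvelopingAlgebra k L),
    x ∈ Ufil (k := k) (L := L) (n + 1) → Dred x ∈ Tfil (k := k) (L := L) n := by
  intro n
  induction n with
  | zero =>
    intro x hx
    have hx' : x ∈ Ugen (k := k) (L := L) := by
      have : Ufil (k := k) (L := L) (0 + 1) = Ugen := pow_one _
      rwa [this] at hx
    obtain ⟨a, ha, b, hb, rfl⟩ := Submodule.mem_sup.mp hx'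
    obtain ⟨c, rfl⟩ := Submodule.mem_one.mp ha
    obtain ⟨z, rfl⟩ := hb
    rw [map_add, Algebra.algebraMap_eq_smul_one, map_smul, Dred_one]
    change _ + Dred (k := k) (UniversalEnvelopingAlgebra.ι k z) ∈ _
    rw [Dred_ι, add_zero]
    exact Submodule.smul_mem _ _ (neg_mem (tmul_mem_Tfil (one_mem_Ufil 0) (one_mem_Ufil 0)))
  | succ n ih =>
    intro x hx
    rw [Ufil_succ] at hx
    refine Submodule.mul_induction_on hx ?_ ?_
    · intro b hb a ha
      obtain ⟨b1, hb1, b2, hb2, rfl⟩ := Submodule.mem_sup.mp hb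
      obtain ⟨c, rfl⟩ := Submodule.mem_one.mp hb1
      obtain ⟨z, rfl⟩ := hb2
      rw [add_mul, map_add]
      refine add_mem ?_ ?_
      · rw [Algebra.algebraMap_eq_smul_one, smul_mul_assoc, one_mul, map_smul]
        exact Submodule.smul_mem _ _ (Tfil_mono (Nat.le_succ n) (ih a ha))
      · change Dred (k := k) (UniversalEnvelopingAlgebra.ι k z * a) ∈ _
        rw [Dred_ι_mul]
        refine add_mem (add_mem (add_mem ?_ ?_) ?_) ?_
        · exact ι_tmul_one_mul_mem z (ih a ha)
        · exact one_tmul_ι_mul_mem z (ih a ha)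
        · exact tmul_mem_Tfil (ι_mem_Ufil z (Nat.succ_pos n)) ha
        · exact tmul_mem_Tfil ha (ι_mem_Ufil z (Nat.succ_pos n))
    · intro x y hx hy
      rw [map_add]; exact add_mem hx hy

/-- Products of `n` elements of `ι L` lie in `Ufil n`. -/
theorem list_prod_mem_Ufil (l : List L) :
    (l.map fun z => UniversalEnvelopingAlgebra.ι k z).prod ∈ Ufil (k := k) (L := L) l.length := by
  induction l with
  | nil => simpa using one_mem_Ufil (k := k) (L := L) 0
  | cons z l ih =>
    rw [List.map_cons, List.prod_cons, List.length_cons]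
    exact ι_mul_mem_Ufil z ih

end U

end Groth.Agent.Lib.Helper84.CMM
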