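import Groth.Agent.S3312
import Groth.Agent.Lib.Helper84.CMM.UCoalg

/-!
# Primitive elements of a universal enveloping algebra in characteristic zero

Using the PBW basis: if `Δ x = x ⊗ 1 + 1 ⊗ x` in `U(L)` (char `0`), then `x ∈ ι(L)`.
-/

set_option linter.unusedSectionVars false
set_option linter.unusedVariables false
set_option linter.style.longLine false

universe u v w

open TensorProduct

namespace Groth.Agent.Lib.Helper84.CMM

attribute [local instance 100] LieRing.ofAssociativeRing

open Groth.Agent.Lib.Helper85.PBW (mon mon_cons mon_nil)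

section Splits

variable {ι : Type w}

/-- All ways of splitting a list into a subsequence and its complement. -/
def splits : List ι → List (List ι × List ι)
  | [] => [([], [])]
  | h :: l => (splits l).map (fun p => (h :: p.1, p.2)) ++ (splits l).map (fun p => (p.1, h :: p.2))

theorem splits_nil : splits ([] : List ι) = [([], [])] := rfl

theorem splits_cons (h : ι) (l : List ι) :
    splits (h :: l) =
      (splits l).map (fun p => (h :: p.1, p.2)) ++ (splits l).map (fun p => (p.1, h :: p.2)) := rfl

theorem splits_sublist (l : List ι) : ∀ p ∈ splits l, p.1.Sublist l ∧ p.2.Sublist l := by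
  induction l with
  | nil =>
    intro p hp
    rw [splits_nil, List.mem_singleton] at hp
    subst hp
    exact ⟨List.Sublist.refl _, List.Sublist.refl _⟩
  | cons h l ih =>
    intro p hp
    rw [splits_cons, List.mem_append, List.mem_map, List.mem_map] at hp
    rcases hp with ⟨q, hq, rfl⟩ | ⟨q, hq, rfl⟩
    · exact ⟨(ih q hq).1.cons_cons h, (ih q hq).2.cons h⟩
    · exact ⟨(ih q hq).1.cons h, (ih q hq).2.cons_cons h⟩

end Splits

section Main

variable {k : Type u} [Field k] {L : Type v} [LieRing L] [LieAlgebra k L]
  {ι : Type w} [LinearOrder ι] (b : Module.Basis ι k L)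

theorem deltaU_mon (l : List ι) :
    deltaU (k := k) (mon b l) = ((splits l).map (fun p => mon b p.1 ⊗ₜ[k] mon b p.2)).sum := by
  induction l with
  | nil =>
    rw [splits_nil, mon_nil, map_one, Algebra.TensorProduct.one_def]
    simp
  | cons h l ih =>
    rw [mon_cons, map_mul, deltaU_ι, ih, splits_cons, List.map_append, List.sum_append,
      List.map_map, List.map_map, add_mul]
    congr 1
    · rw [← List.sum_map_mul_left]
      congr 1
      apply List.map_congr_left
      intro p _
      simp only [Function.comp_apply, Algebra.TensorProduct.tmul_mul_tmul, one_mul, mon_cons]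
    · rw [← List.sum_map_mul_left]
      congr 1
      apply List.map_congr_left
      intro p _
      simp only [Function.comp_apply, Algebra.TensorProduct.tmul_mul_tmul, one_mul, mon_cons]

/-- `φ ⊗ id` followed by the identification `k ⊗ U = U`. -/
noncomputable def sliceL (φ : UniversalEnvelopingAlgebra k L →ₗ[k] k) :
    UniversalEnvelopingAlgebra k L ⊗[k] UniversalEnvelopingAlgebra k L →ₗ[k]
      UniversalEnvelopingAlgebra k L :=
  (TensorProduct.lid k (UniversalEnvelopingAlgebra k L)).toLinearMap ∘ₗ
    φ.rTensor (UniversalEnvelopingAlgebra k L)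

theorem sliceL_tmul (φ : UniversalEnvelopingAlgebra k L →ₗ[k] k)
    (x y : UniversalEnvelopingAlgebra k L) : sliceL φ (x ⊗ₜ[k] y) = φ x • y := by
  simp [sliceL]

theorem sliceL_deltaU_mon (φ : UniversalEnvelopingAlgebra k L →ₗ[k] k) (l : List ι) :
    sliceL φ (deltaU (k := k) (mon b l)) =
      ((splits l).map (fun p => φ (mon b p.1) • mon b p.2)).sum := by
  rw [deltaU_mon, map_list_sum, List.map_map]
  apply congrArg
  apply List.map_congr_left
  intro p _
  simp only [Function.comp_apply, sliceL_tmul]

/-- The sum over splittings with empty first part. -/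
theorem E_sum (l : List ι) :
    ((splits l).map (fun p => if p.1 = [] then mon b p.2 else 0)).sum = mon b l := by
  induction l with
  | nil => simp [splits_nil]
  | cons h l ih =>
    rw [splits_cons, List.map_append, List.sum_append, List.map_map, List.map_map]
    have h1 : ((fun p : List ι × List ι => if p.1 = [] then mon b p.2 else 0) ∘
        fun p : List ι × List ι => (h :: p.1, p.2)) = fun _ => (0 : UniversalEnvelopingAlgebra k L) := by
      funext p
      simp
    have h2 : ((fun p : List ι × List ι => if p.1 = [] then mon b p.2 else 0) ∘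
        fun p : List ι × List ι => (p.1, h :: p.2)) =
        fun p => UniversalEnvelopingAlgebra.ι k (b h) * (if p.1 = [] then mon b p.2 else 0) := by
      funext p
      simp only [Function.comp_apply]
      split_ifs
      · rw [mon_cons]
      · rw [mul_zero]
    rw [h1, h2, List.sum_map_mul_left, ih, mon_cons]
    simp

/-- The sum over splittings with first part `[a]`. -/
noncomputable def Fsum (a : ι) (l : List ι) : UniversalEnvelopingAlgebra k L :=
  ((splits l).map (fun p => if p.1 = [a] then mon b p.2 else 0)).sum

theorem Fsum_nil (a : ι) : Fsum b a [] = 0 := by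
  simp [Fsum, splits_nil]

theorem Fsum_cons (a h : ι) (l : List ι) :
    Fsum b a (h :: l) = (if h = a then mon b l else 0) +
      UniversalEnvelopingAlgebra.ι k (b h) * Fsum b a l := by
  rw [Fsum, splits_cons, List.map_append, List.sum_append, List.map_map, List.map_map]
  have h1 : ((fun p : List ι × List ι => if p.1 = [a] then mon b p.2 else 0) ∘
      fun p : List ι × List ι => (h :: p.1, p.2)) =
      fun p => if h = a then (if p.1 = [] then mon b p.2 else 0) else 0 := by
    funext p
    simp only [Function.comp_apply, List.cons.injEq]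
    by_cases hh : h = a
    · simp [hh]
    · simp [hh]
  have h2 : ((fun p : List ι × List ι => if p.1 = [a] then mon b p.2 else 0) ∘
      fun p : List ι × List ι => (p.1, h :: p.2)) =
      fun p => UniversalEnvelopingAlgebra.ι k (b h) * (if p.1 = [a] then mon b p.2 else 0) := by
    funext p
    simp only [Function.comp_apply]
    split_ifs
    · rw [mon_cons]
    · rw [mul_zero]
  rw [h1, h2, List.sum_map_mul_left]
  congr 1
  by_cases hh : h = a
  · simp only [hh, if_true]
    exact E_sum b l
  · simp [hh]

theorem Fsum_sorted (a : ι) : ∀ (l : List ι), l.Pairwise (· ≤ ·) →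
    Fsum b a l = (l.count a) • mon b (l.erase a) := by
  intro l
  induction l with
  | nil =>
    intro _
    rw [Fsum_nil]
    simp
  | cons h l ih =>
    intro hl
    have hl' : l.Pairwise (· ≤ ·) := (List.pairwise_cons.mp hl).2
    rw [Fsum_cons, ih hl']
    by_cases hh : h = a
    · subst hh
      rw [if_pos rfl, List.erase_cons_head, List.count_cons_self]
      by_cases hmem : h ∈ l
      · have hperm : (h :: l.erase h).Perm l := (List.perm_cons_erase hmem).symm
        have hs1 : (h :: l.erase h).SortedLE :=
          List.sortedLE_iff_pairwise.mpr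
            (hl.sublist ((List.erase_sublist (a := h) (l := l)).cons_cons h))
        have hs2 : l.SortedLE := List.sortedLE_iff_pairwise.mpr hl'
        have heq : h :: l.erase h = l := hperm.eq_of_sortedLE hs1 hs2
        rw [mul_smul_comm, ← mon_cons, heq, add_smul, one_smul, add_comm]
      · rw [List.count_eq_zero_of_not_mem hmem]
        simp
    · have hne : (h == a) = false := by simpa using hh
      rw [if_neg hh, zero_add, List.erase_cons_tail (by simpa using hh), List.count_cons_of_ne hh,
        mul_smul_comm, ← mon_cons]

end Main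

section Prim

variable {k : Type u} [Field k] [CharZero k] {L : Type v} [LieRing L] [LieAlgebra k L]
  {ι : Type w} [LinearOrder ι] (b : Module.Basis ι k L)

theorem sortedLE_singleton (a : ι) : [a].SortedLE :=
  List.sortedLE_iff_pairwise.mpr (List.pairwise_singleton _ _)

theorem sortedLE_nil : ([] : List ι).SortedLE :=
  List.sortedLE_iff_pairwise.mpr List.Pairwise.nil

theorem sortedLE_of_sublist {s l : List ι} (h : s.Sublist l) (hl : l.SortedLE) : s.SortedLE :=
  List.sortedLE_iff_pairwise.mpr ((List.sortedLE_iff_pairwise.mp hl).sublist h)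

theorem coord_mon_of_sorted
    (B : Module.Basis {l : List ι // l.SortedLE} k (UniversalEnvelopingAlgebra k L))
    (hB : ∀ l, B l = mon b l.1) (s : List ι) (hs : s.SortedLE)
    (t : {l : List ι // l.SortedLE}) :
    B.coord t (mon b s) = if s = t.1 then 1 else 0 := by
  rw [← hB ⟨s, hs⟩, Module.Basis.coord_apply, Module.Basis.repr_self, Finsupp.single_apply]
  by_cases h : s = t.1
  · rw [if_pos h, if_pos (Subtype.ext h)]
  · rw [if_neg h, if_neg (fun h' => h (congrArg Subtype.val h'))]

theorem sliceL_coord_single
    (B : Module.Basis {l : List ι // l.SortedLE} k (UniversalEnvelopingAlgebra k L))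
    (hB : ∀ l, B l = mon b l.1) (a : ι) (l : {l : List ι // l.SortedLE}) :
    sliceL (B.coord ⟨[a], sortedLE_singleton a⟩) (deltaU (k := k) (B l)) = Fsum b a l.1 := by
  rw [hB, sliceL_deltaU_mon, Fsum]
  congr 1
  apply List.map_congr_left
  intro p hp
  have hs := sortedLE_of_sublist (splits_sublist l.1 p hp).1 l.2
  rw [coord_mon_of_sorted b B hB p.1 hs]
  simp only [ite_smul, one_smul, zero_smul]

theorem sliceL_coord_nil
    (B : Module.Basis {l : List ι // l.SortedLE} k (UniversalEnvelopingAlgebra k L))
    (hB : ∀ l, B l = mon b l.1) (x : UniversalEnvelopingAlgebra k L) :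
    sliceL (B.coord ⟨[], sortedLE_nil⟩) (deltaU (k := k) x) = x := by
  have h : (sliceL (B.coord ⟨[], sortedLE_nil⟩)) ∘ₗ (deltaU (k := k) (L := L)).toLinearMap =
      LinearMap.id := by
    apply B.ext
    intro l
    change sliceL (B.coord ⟨[], sortedLE_nil⟩) (deltaU (k := k) (B l)) = B l
    rw [hB, sliceL_deltaU_mon, ← E_sum b l.1]
    congr 1
    apply List.map_congr_left
    intro p hp
    have hs := sortedLE_of_sublist (splits_sublist l.1 p hp).1 l.2
    rw [coord_mon_of_sorted b B hB p.1 hs]
    simp only [ite_smul, one_smul, zero_smul]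
  exact LinearMap.congr_fun h x

/-- Claim B: primitive elements of `U(L)` lie in `ι(L)` (characteristic zero). -/
theorem mem_range_ι_of_prim {ι : Type w} [LinearOrder ι] (b : Module.Basis ι k L)
    (x : UniversalEnvelopingAlgebra k L)
    (hx : deltaU (k := k) x = x ⊗ₜ[k] (1 : UniversalEnvelopingAlgebra k L) +
      (1 : UniversalEnvelopingAlgebra k L) ⊗ₜ[k] x) :
    x ∈ LinearMap.range
      (UniversalEnvelopingAlgebra.ι k : L →ₗ⁅k⁆ UniversalEnvelopingAlgebra k L).toLinearMap := by
  classical
  obtain ⟨B, hB'⟩ := Groth.Agent.S3312.result k L ι b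
  have hB : ∀ l, B l = mon b l.1 := hB'
  have hone : (1 : UniversalEnvelopingAlgebra k L) = mon b [] := rfl
  -- the coefficient at the empty list vanishes
  have hnil : B.repr x ⟨[], sortedLE_nil⟩ = 0 := by
    have h1 := sliceL_coord_nil b B hB x
    rw [hx, map_add, sliceL_tmul, sliceL_tmul] at h1
    have h2 : B.coord ⟨[], sortedLE_nil⟩ (1 : UniversalEnvelopingAlgebra k L) = 1 := by
      rw [hone, coord_mon_of_sorted b B hB [] sortedLE_nil, if_pos rfl]
    rw [h2, one_smul, add_eq_right] at h1
    have h3 : (1 : UniversalEnvelopingAlgebra k L) ≠ 0 := by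
      rw [hone, ← hB ⟨[], sortedLE_nil⟩]
      exact B.ne_zero _
    exact (smul_eq_zero.mp h1).resolve_right h3
  -- the coefficients at lists of length at least two vanish
  have hlong : ∀ l₀ : {l : List ι // l.SortedLE}, 2 ≤ l₀.1.length → B.repr x l₀ = 0 := by
    intro l₀ hlen
    obtain ⟨a, rest, hl₀⟩ : ∃ a rest, l₀.1 = a :: rest := by
      cases h : l₀.1 with
      | nil => rw [h] at hlen; simp at hlen
      | cons a rest => exact ⟨a, rest, rfl⟩
    have hrest : rest ≠ [] := by
      intro h
      rw [hl₀, h] at hlen
      simp at hlen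
    have herase : l₀.1.erase a = rest := by rw [hl₀, List.erase_cons_head]
    have hsr : rest.SortedLE :=
      sortedLE_of_sublist (by rw [hl₀]; exact List.sublist_cons_self a rest) l₀.2
    -- compare two functionals on the basis
    have hfun : (B.coord ⟨rest, hsr⟩) ∘ₗ (sliceL (B.coord ⟨[a], sortedLE_singleton a⟩)) ∘ₗ
        (deltaU (k := k) (L := L)).toLinearMap = ((l₀.1.count a : ℕ) : k) • B.coord l₀ := by
      apply B.ext
      intro l
      change B.coord ⟨rest, hsr⟩ (sliceL (B.coord ⟨[a], sortedLE_singleton a⟩) (deltaU (k := k) (B l))) =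
        ((l₀.1.count a : ℕ) : k) • B.coord l₀ (B l)
      rw [sliceL_coord_single b B hB, Fsum_sorted b a l.1 (List.sortedLE_iff_pairwise.mp l.2),
        map_nsmul, coord_mon_of_sorted b B hB _
          (sortedLE_of_sublist List.erase_sublist l.2), Module.Basis.coord_apply,
        Module.Basis.repr_self, Finsupp.single_apply]
      by_cases hll : l = l₀
      · subst hll
        rw [if_pos rfl, if_pos herase]
        simp
      · rw [if_neg hll, smul_zero]
        by_cases hmem : a ∈ l.1
        · have hne : ¬ (l.1.erase a = rest) := by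
            intro he
            apply hll
            apply Subtype.ext
            have p1 : l.1.Perm (a :: rest) := by
              rw [← he]; exact List.perm_cons_erase hmem
            rw [← hl₀] at p1
            exact p1.eq_of_sortedLE l.2 l₀.2
          rw [if_neg hne, smul_zero]
        · rw [List.count_eq_zero_of_not_mem hmem, zero_smul]
    have h1 := LinearMap.congr_fun hfun x
    change B.coord ⟨rest, hsr⟩ (sliceL (B.coord ⟨[a], sortedLE_singleton a⟩) (deltaU (k := k) x)) =
      ((l₀.1.count a : ℕ) : k) • B.coord l₀ x at h1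
    rw [hx, map_add, sliceL_tmul, sliceL_tmul] at h1
    have h2 : B.coord ⟨[a], sortedLE_singleton a⟩ (1 : UniversalEnvelopingAlgebra k L) = 0 := by
      rw [hone, coord_mon_of_sorted b B hB [] sortedLE_nil, if_neg]
      intro h
      exact List.cons_ne_nil _ _ h.symm
    rw [h2, zero_smul, add_zero, map_smul, hone, coord_mon_of_sorted b B hB [] sortedLE_nil,
      if_neg (fun h : [] = rest => hrest h.symm), smul_zero] at h1
    have hcount : ((l₀.1.count a : ℕ) : k) ≠ 0 := by
      have : 0 < l₀.1.count a := by
        rw [hl₀, List.count_cons_self]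
        exact Nat.succ_pos _
      exact_mod_cast this.ne'
    have h3 := (smul_eq_zero.mp h1.symm).resolve_left hcount
    exact h3
  -- conclude
  have hsupp : x ∈ Submodule.span k (B '' {l | l.1.length = 1}) := by
    rw [Module.Basis.mem_span_image]
    intro l hl
    have hne : B.repr x l ≠ 0 := Finsupp.mem_support_iff.mp hl
    change l.1.length = 1
    by_contra hlen
    rcases Nat.lt_or_ge l.1.length 2 with h | h
    · have h0 : l.1.length = 0 := by omega
      have : l = ⟨[], sortedLE_nil⟩ := Subtype.ext (List.length_eq_zero_iff.mp h0)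
      rw [this] at hne
      exact hne hnil
    · exact hne (hlong l h)
  refine (Submodule.span_le.mpr ?_) hsupp
  rintro _ ⟨l, hl, rfl⟩
  have hl' : l.1.length = 1 := hl
  obtain ⟨a, ha⟩ := List.length_eq_one_iff.mp hl'
  refine ⟨b a, ?_⟩
  rw [hB, ha]
  simp [mon]

end Prim

end Groth.Agent.Lib.Helper84.CMM
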