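import Groth.Agent.Lib.Helper84.CMM.Adams
import Mathlib.RingTheory.Polynomial.Pochhammer
import Mathlib.Algebra.Polynomial.Roots
import Mathlib.LinearAlgebra.Dual.Lemmas

/-!
# Weight decomposition of a connected cocommutative bialgebra in characteristic zero

`Ψ^m x = ∑_r m^r e_r x` with `e_r x` in the weight space `W r = {y | ∀ m, Ψ^m y = m^r y}`.
-/

set_option linter.unusedSectionVars false
set_option linter.unusedVariables false
set_option linter.style.longLine false

universe u v

open TensorProduct WithConv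

namespace Groth.Agent.Lib.Helper84.CMM

section Binom

variable (k : Type u) [Field k] [CharZero k]

/-- The binomial polynomial `X(X-1)⋯(X-j+1)/j!`. -/
noncomputable def bp (j : ℕ) : Polynomial k :=
  Polynomial.C ((j.factorial : k)⁻¹) * descPochhammer k j

theorem bp_eval (j m : ℕ) : (bp k j).eval (m : k) = (m.choose j : k) := by
  rw [bp, Polynomial.eval_mul, Polynomial.eval_C, descPochhammer_eval_eq_descFactorial,
    Nat.descFactorial_eq_factorial_mul_choose, Nat.cast_mul, ← mul_assoc, inv_mul_cancel₀, one_mul]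
  exact_mod_cast Nat.factorial_ne_zero j

theorem bp_natDegree_le (j : ℕ) : (bp k j).natDegree ≤ j := by
  refine le_trans (Polynomial.natDegree_C_mul_le _ _) ?_
  rw [descPochhammer_natDegree]

/-- Coefficients of the binomial polynomials. -/
noncomputable def bc (j r : ℕ) : k := (bp k j).coeff r

theorem bc_eq_zero {j r : ℕ} (h : j < r) : bc k j r = 0 :=
  Polynomial.coeff_eq_zero_of_natDegree_lt (lt_of_le_of_lt (bp_natDegree_le k j) h)

theorem choose_eq_sum (j m N : ℕ) (hN : j < N) :
    (m.choose j : k) = ∑ r ∈ Finset.range N, bc k j r * (m : k) ^ r := by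
  rw [← bp_eval, Polynomial.eval_eq_sum_range' (lt_of_le_of_lt (bp_natDegree_le k j) hN)]
  rfl

/-- A vector-valued polynomial vanishing at all natural numbers has zero coefficients. -/
theorem poly_coeff_zero {V : Type*} [AddCommGroup V] [Module k V] (N : ℕ) (v : ℕ → V)
    (h : ∀ m : ℕ, ∑ r ∈ Finset.range N, ((m : k) ^ r) • v r = 0) (r : ℕ) (hr : r < N) :
    v r = 0 := by
  rw [← Module.forall_dual_apply_eq_zero_iff k]
  intro f
  let p : Polynomial k := ∑ r ∈ Finset.range N, Polynomial.C (f (v r)) * Polynomial.X ^ r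
  have hp : ∀ m : ℕ, p.IsRoot (m : k) := by
    intro m
    rw [Polynomial.IsRoot.def]
    simp only [p, Polynomial.eval_finsetSum, Polynomial.eval_mul, Polynomial.eval_C,
      Polynomial.eval_pow, Polynomial.eval_X]
    have := congrArg f (h m)
    rw [map_sum, map_zero] at this
    simp only [map_smul, smul_eq_mul] at this
    rw [← this]
    exact Finset.sum_congr rfl fun r _ => mul_comm _ _
  have hp0 : p = 0 := Polynomial.eq_zero_of_infinite_isRoot p
    (Set.infinite_of_injective_forall_mem (f := fun m : ℕ => (m : k)) Nat.cast_injective hp)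
  have h1 := congrArg (fun q => Polynomial.coeff q r) hp0
  simp only [p, Polynomial.finsetSum_coeff, Polynomial.coeff_C_mul_X_pow, Polynomial.coeff_zero] at h1
  rw [Finset.sum_ite_eq, if_pos (Finset.mem_range.mpr hr)] at h1
  exact h1

theorem poly_coeff_eq {V : Type*} [AddCommGroup V] [Module k V] (N : ℕ) (v w : ℕ → V)
    (h : ∀ m : ℕ, ∑ r ∈ Finset.range N, ((m : k) ^ r) • v r =
      ∑ r ∈ Finset.range N, ((m : k) ^ r) • w r) (r : ℕ) (hr : r < N) :
    v r = w r := by
  have h' : ∀ m : ℕ, ∑ r ∈ Finset.range N, ((m : k) ^ r) • (v r - w r) = 0 := by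
    intro m
    simp only [smul_sub, Finset.sum_sub_distrib]
    exact sub_eq_zero.mpr (h m)
  exact sub_eq_zero.mp (poly_coeff_zero k N _ h' r hr)

end Binom

section Filt

variable {k : Type u} [Field k] [CharZero k] {H : Type v} [Ring H] [Bialgebra k H]

/-- `FN N`: elements killed by `π^j` for all `j ≥ N`. -/
def FN (N : ℕ) : Submodule k H where
  carrier := {x | ∀ j, N ≤ j → ((piC (k := k) (H := H)) ^ j).ofConv x = 0}
  add_mem' := by
    intro a b ha hb j hj
    rw [map_add, ha j hj, hb j hj, add_zero]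
  zero_mem' := by
    intro j _
    rw [map_zero]
  smul_mem' := by
    intro c x hx j hj
    rw [map_smul, hx j hj, smul_zero]

theorem mem_FN {N : ℕ} {x : H} :
    x ∈ FN (k := k) N ↔ ∀ j, N ≤ j → ((piC (k := k) (H := H)) ^ j).ofConv x = 0 := Iff.rfl

theorem FN_mono {N N' : ℕ} (h : N ≤ N') : FN (k := k) (H := H) N ≤ FN N' :=
  fun x hx j hj => hx j (le_trans h hj)

/-- Truncated weight projector. -/
noncomputable def eN (N r : ℕ) : H →ₗ[k] H :=
  ∑ j ∈ Finset.range N, bc k j r • ((piC (k := k) (H := H)) ^ j).ofConv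

theorem eN_apply (N r : ℕ) (x : H) :
    eN (k := k) N r x = ∑ j ∈ Finset.range N, bc k j r • ((piC (k := k) (H := H)) ^ j).ofConv x := by
  simp [eN, LinearMap.sum_apply]

theorem eN_eq_of_le {N N' : ℕ} (h : N ≤ N') {x : H} (hx : x ∈ FN (k := k) N) (r : ℕ) :
    eN (k := k) N' r x = eN (k := k) N r x := by
  rw [eN_apply, eN_apply]
  symm
  apply Finset.sum_subset (Finset.range_mono h)
  intro j _ hj'
  rw [hx j (by simpa using hj'), smul_zero]

theorem eN_eq_zero {N r : ℕ} (h : N ≤ r) (x : H) : eN (k := k) N r x = 0 := by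
  rw [eN_apply]
  apply Finset.sum_eq_zero
  intro j hj
  rw [bc_eq_zero k (lt_of_lt_of_le (Finset.mem_range.mp hj) h), zero_smul]

end Filt

section Conn

variable {k : Type u} [Field k] [CharZero k] {H : Type v} [Ring H] [Bialgebra k H]
  [Coalgebra.IsCocomm k H]

theorem exists_mem_FN (hconn : SGA3y.IsConnectedCoalg k H) (x : H) :
    ∃ N : ℕ, x ∈ FN (k := k) N :=
  exists_pow_pi_eq_zero hconn x

open Classical in
/-- The least `N` with `x ∈ FN N`. -/
noncomputable def Nx (hconn : SGA3y.IsConnectedCoalg k H) (x : H) : ℕ :=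
  Nat.find (exists_mem_FN hconn x)

theorem mem_FN_Nx (hconn : SGA3y.IsConnectedCoalg k H) (x : H) :
    x ∈ FN (k := k) (Nx hconn x) := by
  classical
  exact Nat.find_spec (exists_mem_FN hconn x)

theorem Nx_le (hconn : SGA3y.IsConnectedCoalg k H) {x : H} {N : ℕ} (hx : x ∈ FN (k := k) N) :
    Nx hconn x ≤ N := by
  classical
  exact Nat.find_min' (exists_mem_FN hconn x) hx

/-- Underlying function of the weight projector. -/
noncomputable def eWfun (hconn : SGA3y.IsConnectedCoalg k H) (r : ℕ) (x : H) : H :=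
  eN (k := k) (Nx hconn x) r x

theorem eWfun_eq (hconn : SGA3y.IsConnectedCoalg k H) (r : ℕ) {x : H} {N : ℕ}
    (hx : x ∈ FN (k := k) N) : eWfun hconn r x = eN (k := k) N r x :=
  (eN_eq_of_le (Nx_le hconn hx) (mem_FN_Nx hconn x) r).symm

/-- The weight projector `e_r`. -/
noncomputable def eW (hconn : SGA3y.IsConnectedCoalg k H) (r : ℕ) : H →ₗ[k] H where
  toFun := eWfun hconn r
  map_add' := by
    intro x y
    have hx : x ∈ FN (k := k) (max (Nx hconn x) (Nx hconn y)) :=
      FN_mono (le_max_left _ _) (mem_FN_Nx hconn x)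
    have hy : y ∈ FN (k := k) (max (Nx hconn x) (Nx hconn y)) :=
      FN_mono (le_max_right _ _) (mem_FN_Nx hconn y)
    rw [eWfun_eq hconn r ((FN _).add_mem hx hy), eWfun_eq hconn r hx, eWfun_eq hconn r hy, map_add]
  map_smul' := by
    intro c x
    have hx := mem_FN_Nx hconn x
    rw [eWfun_eq hconn r ((FN _).smul_mem c hx), eWfun_eq hconn r hx, map_smul]
    rfl

theorem eW_eq (hconn : SGA3y.IsConnectedCoalg k H) (r : ℕ) {x : H} {N : ℕ}
    (hx : x ∈ FN (k := k) N) : eW hconn r x = eN (k := k) N r x :=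
  eWfun_eq hconn r hx

theorem eW_eq_zero (hconn : SGA3y.IsConnectedCoalg k H) {r : ℕ} {x : H} {N : ℕ}
    (hx : x ∈ FN (k := k) N) (h : N ≤ r) : eW hconn r x = 0 := by
  rw [eW_eq hconn r hx, eN_eq_zero h]

/-- Polynomial expansion of the Adams operations. -/
theorem Psi_eq_sum_eW (hconn : SGA3y.IsConnectedCoalg k H) {x : H} {N : ℕ}
    (hx : x ∈ FN (k := k) N) (m : ℕ) :
    (Psi (k := k) (H := H) m).ofConv x = ∑ r ∈ Finset.range N, ((m : k) ^ r) • eW hconn r x := by
  have h0 := Psi_apply_eq_sum (k := k) (H := H) m x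
  rw [h0]
  have h1 : ∑ j ∈ Finset.range (m + 1), ((m.choose j : ℕ) : k) • ((piC (k := k) (H := H)) ^ j).ofConv x =
      ∑ j ∈ Finset.range N, ((m.choose j : ℕ) : k) • ((piC (k := k) (H := H)) ^ j).ofConv x := by
    have ha : ∑ j ∈ Finset.range (m + 1), ((m.choose j : ℕ) : k) • ((piC (k := k) (H := H)) ^ j).ofConv x =
        ∑ j ∈ Finset.range (max (m + 1) N), ((m.choose j : ℕ) : k) • ((piC (k := k) (H := H)) ^ j).ofConv x := by
      apply Finset.sum_subset (Finset.range_mono (le_max_left _ _))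
      intro j _ hj
      rw [Nat.choose_eq_zero_of_lt (by simpa using hj), Nat.cast_zero, zero_smul]
    have hb : ∑ j ∈ Finset.range N, ((m.choose j : ℕ) : k) • ((piC (k := k) (H := H)) ^ j).ofConv x =
        ∑ j ∈ Finset.range (max (m + 1) N), ((m.choose j : ℕ) : k) • ((piC (k := k) (H := H)) ^ j).ofConv x := by
      apply Finset.sum_subset (Finset.range_mono (le_max_right _ _))
      intro j _ hj
      rw [hx j (by simpa using hj), smul_zero]
    rw [ha, hb]
  rw [h1]
  have h2 : ∀ j ∈ Finset.range N, ((m.choose j : ℕ) : k) • ((piC (k := k) (H := H)) ^ j).ofConv x =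
      ∑ r ∈ Finset.range N, ((m : k) ^ r) • (bc k j r • ((piC (k := k) (H := H)) ^ j).ofConv x) := by
    intro j hj
    rw [choose_eq_sum k j m N (Finset.mem_range.mp hj), Finset.sum_smul]
    refine Finset.sum_congr rfl fun r _ => ?_
    rw [smul_smul, mul_comm]
  rw [Finset.sum_congr rfl h2, Finset.sum_comm]
  refine Finset.sum_congr rfl fun r _ => ?_
  rw [eW_eq hconn r hx, eN_apply, Finset.smul_sum]

/-- The weight spaces of the Adams operations. -/
def W (r : ℕ) : Submodule k H where
  carrier := {y | ∀ m : ℕ, (Psi (k := k) (H := H) m).ofConv y = ((m : k) ^ r) • y}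
  add_mem' := by
    intro a b ha hb m
    rw [map_add, ha m, hb m, smul_add]
  zero_mem' := by
    intro m
    rw [map_zero, smul_zero]
  smul_mem' := by
    intro c x hx m
    rw [map_smul, hx m, smul_comm]

theorem mem_W {r : ℕ} {y : H} :
    y ∈ W (k := k) r ↔ ∀ m : ℕ, (Psi (k := k) (H := H) m).ofConv y = ((m : k) ^ r) • y := Iff.rfl

theorem eW_mem_W (hconn : SGA3y.IsConnectedCoalg k H) (r : ℕ) (x : H) :
    eW hconn r x ∈ W (k := k) r := by
  obtain ⟨N, hx⟩ := exists_mem_FN hconn x
  by_cases hr : r < N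
  · intro m
    have key : ∀ n : ℕ, ∑ s ∈ Finset.range N, ((n : k) ^ s) • ((Psi (k := k) (H := H) m).ofConv (eW hconn s x)) =
        ∑ s ∈ Finset.range N, ((n : k) ^ s) • (((m : k) ^ s) • eW hconn s x) := by
      intro n
      have h1 := Psi_Psi_apply (k := k) (H := H) m n x
      rw [Psi_eq_sum_eW hconn hx n, Psi_eq_sum_eW hconn hx (n * m), map_sum] at h1
      rw [← Finset.sum_congr rfl fun s _ => map_smul (Psi (k := k) (H := H) m).ofConv ((n : k) ^ s) (eW hconn s x)]
      rw [h1]
      refine Finset.sum_congr rfl fun s _ => ?_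
      rw [smul_smul, Nat.cast_mul, mul_pow]
    exact poly_coeff_eq k N _ _ key r hr
  · rw [eW_eq_zero hconn hx (not_lt.mp hr)]
    exact zero_mem _

theorem sum_eW (hconn : SGA3y.IsConnectedCoalg k H) {x : H} {N : ℕ} (hx : x ∈ FN (k := k) N) :
    x = ∑ r ∈ Finset.range N, eW hconn r x := by
  have h := Psi_eq_sum_eW hconn hx 1
  rw [Psi_one] at h
  simp only [Nat.cast_one, one_pow, one_smul] at h
  exact h

theorem eq_of_mem_W_zero {y : H} (hy : y ∈ W (k := k) 0) :
    y = algebraMap k H (Coalgebra.counit (R := k) y) := by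
  have h := hy 0
  rw [pow_zero, one_smul] at h
  exact h.symm.trans (Psi_zero_apply (k := k) y)

theorem counit_of_mem_W {r : ℕ} (hr : r ≠ 0) {y : H} (hy : y ∈ W (k := k) r) :
    Coalgebra.counit (R := k) y = 0 := by
  have h := hy 0
  rw [Nat.cast_zero, zero_pow hr, zero_smul] at h
  have h2 : (Psi (k := k) (H := H) 0).ofConv y = algebraMap k H (Coalgebra.counit (R := k) y) :=
    Psi_zero_apply y
  rw [h2] at h
  have h3 := congrArg (Coalgebra.counit (R := k)) h
  rw [Bialgebra.counit_algebraMap, map_zero] at h3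
  exact h3

theorem eW_zero_apply (hconn : SGA3y.IsConnectedCoalg k H) (x : H) :
    eW hconn 0 x = algebraMap k H (Coalgebra.counit (R := k) x) := by
  obtain ⟨N, hx⟩ := exists_mem_FN hconn x
  have h0 := eq_of_mem_W_zero (eW_mem_W hconn 0 x)
  have h1 : Coalgebra.counit (R := k) x = Coalgebra.counit (R := k) (eW hconn 0 x) := by
    conv_lhs => rw [sum_eW hconn hx]
    rw [map_sum]
    apply Finset.sum_eq_single 0
    · intro r _ hr
      exact counit_of_mem_W hr (eW_mem_W hconn r x)
    · intro h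
      have hN : N ≤ 0 := by
        by_contra hN
        exact h (Finset.mem_range.mpr (Nat.pos_of_ne_zero (by omega)))
      rw [eW_eq_zero hconn hx hN, map_zero]
  rw [h1]
  exact h0

theorem eW_of_mem_W (hconn : SGA3y.IsConnectedCoalg k H) {r : ℕ} {y : H} (hy : y ∈ W (k := k) r) :
    eW hconn r y = y := by
  obtain ⟨N0, hy0⟩ := exists_mem_FN hconn y
  have hyN : y ∈ FN (k := k) (max N0 (r + 1)) := FN_mono (le_max_left _ _) hy0
  have key : ∀ m : ℕ, ∑ s ∈ Finset.range (max N0 (r + 1)), ((m : k) ^ s) • eW hconn s y =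
      ∑ s ∈ Finset.range (max N0 (r + 1)), ((m : k) ^ s) • (if s = r then y else 0) := by
    intro m
    rw [← Psi_eq_sum_eW hconn hyN m, hy m]
    simp only [smul_ite, smul_zero]
    rw [Finset.sum_ite_eq', if_pos]
    exact Finset.mem_range.mpr (lt_of_lt_of_le (Nat.lt_succ_self r) (le_max_right _ _))
  have := poly_coeff_eq k _ _ _ key r (lt_of_lt_of_le (Nat.lt_succ_self r) (le_max_right _ _))
  rw [this, if_pos rfl]

end Conn

end Groth.Agent.Lib.Helper84.CMM
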